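/-!
Tables for the double cover of the Suzuki group of order 29120: three 8 × 8 matrices modulo 5,
520 lines in 65 frames, and the induced permutations.
-/

set_option autoImplicit false
set_option maxRecDepth 100000

namespace H57.SzEight

def lS : List (List Nat) :=
  [[0, 0, 1, 0, 0, 0, 0, 0], [0, 0, 0, 1, 0, 0, 0, 0], [1, 0, 0, 0, 0, 0, 0, 0], [0, 4, 0, 0, 0, 0, 0, 0], [0, 0, 0, 0, 0, 0, 1, 0], [0, 0, 0, 0, 0, 0, 0, 1], [0, 0, 0, 0, 1, 0, 0, 0], [0, 0, 0, 0, 0, 4, 0, 0]]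

def lD : List (List Nat) :=
  [[1, 0, 0, 0, 0, 0, 0, 0], [0, 0, 0, 0, 0, 0, 0, 1], [0, 0, 0, 0, 0, 1, 0, 0], [0, 0, 1, 0, 0, 0, 0, 0], [0, 1, 0, 0, 0, 0, 0, 0], [0, 0, 0, 0, 0, 0, 1, 0], [0, 0, 0, 0, 1, 0, 0, 0], [0, 0, 0, 1, 0, 0, 0, 0]]

def lW : List (List Nat) :=
  [[2, 1, 1, 1, 1, 1, 1, 1], [1, 4, 1, 0, 3, 4, 3, 3], [1, 1, 3, 3, 0, 4, 3, 4], [1, 0, 3, 4, 3, 3, 4, 1], [1, 3, 0, 3, 3, 1, 4, 4], [1, 4, 4, 3, 1, 3, 0, 3], [1, 3, 3, 4, 4, 0, 1, 3], [1, 3, 4, 1, 4, 3, 3, 0]]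

def pS : List Nat :=
  [0, 9, 10, 11, 12, 13, 14, 15, 16, 2, 1, 4, 3, 6, 5, 8, 7, 27, 28, 25, 26, 31, 32, 29, 30, 20, 19, 18, 17, 24, 23, 22, 21, 45, 46, 47, 48, 41, 42, 43, 44, 38, 37, 40, 39, 34, 33, 36, 35, 63, 64, 61, 62, 59, 60, 57, 58, 56, 55, 54, 53, 52, 51, 50, 49]

def pD : List Nat :=
  [0, 1, 8, 6, 3, 2, 7, 5, 4, 17, 24, 22, 19, 18, 23, 21, 20, 33, 40, 38, 35, 34, 39, 37, 36, 49, 56, 54, 51, 50, 55, 53, 52, 25, 32, 30, 27, 26, 31, 29, 28, 9, 16, 14, 11, 10, 15, 13, 12, 57, 64, 62, 59, 58, 63, 61, 60, 41, 48, 46, 43, 42, 47, 45, 44]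

def pW : List Nat :=
  [1, 0, 9, 49, 57, 17, 25, 33, 41, 2, 10, 35, 51, 53, 21, 23, 39, 5, 31, 28, 22, 14, 20, 15, 45, 6, 59, 54, 19, 42, 44, 18, 60, 7, 43, 11, 63, 46, 40, 16, 38, 8, 29, 34, 30, 24, 37, 58, 62, 3, 61, 12, 56, 13, 27, 64, 52, 4, 47, 26, 32, 50, 48, 36, 55]

def qS : List (List Nat) := [
  [2, 3, 0, 1, 6, 7, 4, 5],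
  [0, 1, 2, 5, 4, 6, 3, 7],
  [0, 1, 5, 3, 6, 4, 7, 2],
  [0, 1, 5, 3, 2, 6, 4, 7],
  [0, 5, 2, 3, 6, 1, 7, 4],
  [0, 1, 5, 3, 6, 4, 2, 7],
  [0, 5, 2, 6, 3, 4, 7, 1],
  [0, 1, 5, 2, 6, 3, 7, 4],
  [0, 5, 2, 6, 1, 7, 3, 4],
  [0, 1, 3, 7, 5, 2, 4, 6],
  [0, 1, 6, 2, 4, 3, 5, 7],
  [0, 2, 5, 3, 7, 1, 4, 6],
  [0, 4, 1, 3, 6, 2, 5, 7],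
  [0, 2, 7, 4, 5, 1, 3, 6],
  [0, 6, 1, 3, 5, 2, 4, 7],
  [0, 2, 4, 6, 7, 1, 3, 5],
  [0, 3, 1, 5, 7, 2, 4, 6],
  [0, 4, 5, 3, 6, 1, 2, 7],
  [0, 5, 4, 2, 6, 1, 3, 7],
  [0, 2, 5, 4, 6, 1, 3, 7],
  [0, 5, 1, 4, 6, 2, 3, 7],
  [0, 2, 5, 1, 6, 3, 4, 7],
  [0, 5, 3, 6, 1, 2, 4, 7],
  [0, 5, 1, 6, 3, 2, 4, 7],
  [0, 5, 2, 6, 3, 1, 4, 7],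
  [0, 5, 2, 6, 3, 1, 4, 7],
  [0, 1, 5, 6, 3, 2, 4, 7],
  [0, 5, 6, 3, 2, 1, 4, 7],
  [0, 5, 3, 6, 1, 2, 4, 7],
  [0, 2, 5, 4, 6, 1, 3, 7],
  [0, 5, 2, 4, 6, 1, 3, 7],
  [0, 4, 2, 5, 6, 1, 3, 7],
  [0, 3, 5, 1, 6, 2, 4, 7],
  [0, 4, 5, 6, 2, 1, 3, 7],
  [0, 5, 4, 6, 2, 1, 3, 7],
  [0, 5, 3, 6, 1, 2, 4, 7],
  [0, 5, 6, 3, 2, 1, 4, 7],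
  [0, 2, 5, 6, 3, 1, 4, 7],
  [0, 5, 1, 6, 3, 2, 4, 7],
  [0, 3, 5, 6, 1, 2, 4, 7],
  [0, 5, 2, 6, 1, 3, 4, 7],
  [0, 5, 2, 4, 6, 1, 3, 7],
  [0, 1, 5, 4, 6, 2, 3, 7],
  [0, 4, 5, 2, 6, 1, 3, 7],
  [0, 4, 1, 5, 6, 2, 3, 7],
  [0, 5, 4, 6, 2, 1, 3, 7],
  [0, 5, 4, 6, 1, 2, 3, 7],
  [0, 4, 5, 3, 6, 1, 2, 7],
  [0, 5, 4, 2, 6, 1, 3, 7],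
  [0, 2, 5, 3, 6, 1, 4, 7],
  [0, 5, 2, 6, 3, 1, 4, 7],
  [0, 4, 5, 1, 6, 2, 3, 7],
  [0, 5, 3, 6, 1, 2, 4, 7],
  [0, 5, 1, 6, 4, 2, 3, 7],
  [0, 5, 6, 2, 4, 1, 3, 7],
  [0, 2, 5, 6, 4, 1, 3, 7],
  [0, 5, 1, 6, 4, 2, 3, 7],
  [0, 5, 2, 6, 4, 1, 3, 7],
  [0, 1, 5, 6, 4, 2, 3, 7],
  [0, 3, 5, 6, 4, 1, 2, 7],
  [0, 5, 2, 6, 4, 1, 3, 7],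
  [0, 4, 5, 6, 2, 1, 3, 7],
  [0, 3, 5, 1, 6, 2, 4, 7],
  [0, 5, 2, 4, 6, 1, 3, 7],
  [0, 5, 1, 3, 6, 2, 4, 7]]

def qD : List (List Nat) := [
  [0, 4, 3, 7, 6, 2, 5, 1],
  [0, 7, 5, 2, 1, 6, 4, 3],
  [0, 1, 6, 3, 2, 7, 5, 4],
  [0, 1, 7, 3, 2, 6, 5, 4],
  [0, 1, 7, 5, 2, 6, 4, 3],
  [0, 1, 7, 5, 2, 6, 4, 3],
  [0, 1, 7, 6, 3, 2, 5, 4],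
  [0, 1, 7, 5, 3, 2, 6, 4],
  [0, 1, 7, 5, 3, 2, 6, 4],
  [0, 1, 4, 3, 2, 6, 7, 5],
  [0, 4, 2, 1, 3, 6, 7, 5],
  [0, 1, 2, 4, 3, 6, 5, 7],
  [0, 1, 4, 3, 2, 5, 6, 7],
  [0, 1, 4, 3, 2, 7, 5, 6],
  [0, 1, 3, 2, 4, 7, 5, 6],
  [0, 1, 4, 2, 3, 5, 7, 6],
  [0, 1, 2, 4, 3, 6, 7, 5],
  [0, 1, 3, 2, 4, 7, 5, 6],
  [0, 1, 4, 3, 2, 7, 6, 5],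
  [0, 1, 3, 4, 2, 6, 7, 5],
  [0, 1, 3, 2, 4, 5, 7, 6],
  [0, 1, 4, 2, 3, 7, 5, 6],
  [0, 1, 3, 2, 4, 7, 6, 5],
  [0, 1, 2, 3, 4, 7, 6, 5],
  [0, 4, 2, 1, 3, 7, 5, 6],
  [0, 1, 2, 3, 4, 5, 6, 7],
  [0, 1, 4, 2, 3, 6, 5, 7],
  [0, 3, 4, 2, 1, 5, 6, 7],
  [0, 1, 4, 3, 2, 5, 6, 7],
  [0, 1, 4, 3, 2, 6, 5, 7],
  [0, 1, 2, 3, 4, 5, 6, 7],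
  [0, 1, 3, 2, 4, 6, 5, 7],
  [0, 1, 2, 3, 4, 6, 5, 7],
  [0, 1, 4, 3, 2, 7, 5, 6],
  [0, 1, 4, 2, 3, 7, 6, 5],
  [0, 1, 4, 3, 2, 7, 6, 5],
  [0, 1, 4, 2, 3, 7, 5, 6],
  [0, 1, 4, 3, 2, 5, 7, 6],
  [0, 1, 2, 3, 4, 6, 7, 5],
  [0, 1, 2, 3, 4, 6, 7, 5],
  [0, 1, 2, 4, 3, 5, 7, 6],
  [0, 1, 4, 2, 3, 7, 5, 6],
  [0, 1, 4, 3, 2, 5, 7, 6],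
  [0, 1, 4, 2, 3, 7, 6, 5],
  [0, 1, 4, 3, 2, 5, 6, 7],
  [0, 2, 4, 1, 3, 7, 5, 6],
  [0, 1, 2, 4, 3, 5, 7, 6],
  [0, 1, 3, 2, 4, 7, 6, 5],
  [0, 1, 4, 2, 3, 5, 6, 7],
  [0, 1, 3, 4, 2, 6, 7, 5],
  [0, 1, 4, 3, 2, 6, 7, 5],
  [0, 1, 3, 4, 2, 5, 7, 6],
  [0, 1, 4, 2, 3, 5, 7, 6],
  [0, 1, 4, 3, 2, 6, 7, 5],
  [0, 3, 1, 2, 4, 6, 7, 5],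
  [0, 1, 2, 4, 3, 7, 5, 6],
  [0, 1, 4, 2, 3, 7, 5, 6],
  [0, 1, 4, 3, 2, 6, 7, 5],
  [0, 1, 4, 3, 2, 5, 7, 6],
  [0, 1, 4, 3, 2, 7, 6, 5],
  [0, 1, 4, 2, 3, 7, 5, 6],
  [0, 1, 3, 2, 4, 7, 6, 5],
  [0, 1, 3, 2, 4, 7, 5, 6],
  [0, 4, 2, 1, 3, 6, 7, 5],
  [0, 1, 2, 4, 3, 5, 7, 6]]

def qW : List (List Nat) := [
  [0, 5, 1, 4, 2, 7, 3, 6],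
  [0, 2, 4, 6, 3, 1, 7, 5],
  [1, 0, 2, 5, 4, 6, 3, 7],
  [1, 0, 5, 3, 2, 6, 7, 4],
  [1, 0, 2, 7, 6, 5, 3, 4],
  [1, 0, 5, 7, 4, 3, 2, 6],
  [1, 0, 2, 3, 4, 7, 6, 5],
  [1, 0, 5, 2, 6, 7, 3, 4],
  [1, 0, 2, 6, 5, 4, 3, 7],
  [1, 0, 2, 6, 4, 3, 5, 7],
  [0, 1, 2, 3, 4, 5, 6, 7],
  [1, 0, 5, 3, 7, 4, 2, 6],
  [1, 0, 3, 7, 5, 2, 6, 4],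
  [1, 0, 5, 7, 3, 2, 6, 4],
  [1, 0, 3, 5, 7, 2, 4, 6],
  [1, 0, 5, 7, 3, 2, 4, 6],
  [1, 0, 4, 6, 7, 2, 5, 3],
  [1, 0, 6, 5, 4, 2, 7, 3],
  [1, 0, 2, 7, 6, 5, 4, 3],
  [1, 0, 5, 7, 3, 4, 6, 2],
  [1, 0, 4, 5, 6, 2, 3, 7],
  [1, 0, 5, 2, 6, 3, 7, 4],
  [1, 0, 5, 6, 2, 3, 4, 7],
  [1, 0, 5, 4, 6, 2, 7, 3],
  [0, 4, 1, 2, 3, 5, 6, 7],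
  [1, 0, 2, 3, 4, 7, 6, 5],
  [1, 0, 5, 3, 7, 2, 4, 6],
  [0, 3, 4, 2, 1, 5, 6, 7],
  [1, 0, 7, 4, 5, 2, 6, 3],
  [1, 0, 5, 6, 4, 2, 7, 3],
  [1, 0, 5, 3, 6, 2, 7, 4],
  [1, 0, 2, 7, 6, 5, 4, 3],
  [1, 0, 7, 5, 4, 2, 3, 6],
  [1, 0, 3, 6, 7, 2, 4, 5],
  [1, 0, 3, 6, 7, 5, 2, 4],
  [1, 0, 6, 3, 5, 2, 7, 4],
  [0, 2, 3, 4, 1, 5, 6, 7],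
  [1, 0, 5, 3, 7, 4, 6, 2],
  [1, 0, 4, 5, 6, 2, 3, 7],
  [1, 0, 5, 7, 2, 6, 3, 4],
  [1, 0, 5, 6, 2, 3, 4, 7],
  [1, 0, 2, 6, 5, 4, 3, 7],
  [1, 0, 5, 7, 4, 2, 3, 6],
  [1, 0, 6, 2, 7, 5, 3, 4],
  [1, 0, 5, 3, 7, 2, 4, 6],
  [0, 2, 3, 4, 1, 5, 6, 7],
  [1, 0, 7, 3, 5, 2, 6, 4],
  [1, 0, 5, 6, 3, 2, 7, 4],
  [1, 0, 5, 4, 6, 3, 7, 2],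
  [1, 0, 4, 3, 7, 2, 5, 6],
  [1, 0, 4, 6, 7, 5, 3, 2],
  [1, 0, 5, 2, 7, 4, 6, 3],
  [1, 0, 5, 6, 2, 4, 3, 7],
  [1, 0, 5, 4, 7, 2, 6, 3],
  [0, 4, 3, 1, 2, 5, 6, 7],
  [1, 0, 5, 4, 7, 2, 6, 3],
  [1, 0, 4, 6, 5, 2, 3, 7],
  [1, 0, 2, 6, 7, 5, 4, 3],
  [1, 0, 5, 4, 7, 2, 3, 6],
  [1, 0, 5, 3, 6, 2, 7, 4],
  [1, 0, 5, 6, 4, 3, 7, 2],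
  [1, 0, 7, 6, 2, 5, 3, 4],
  [1, 0, 7, 5, 3, 2, 4, 6],
  [0, 4, 1, 2, 3, 5, 6, 7],
  [1, 0, 5, 7, 3, 2, 6, 4]]

def lines : List (List (List Nat)) := [
  [[1, 0, 0, 0, 0, 0, 0, 0], [0, 1, 0, 0, 0, 0, 0, 0], [0, 0, 1, 0, 0, 0, 0, 0], [0, 0, 0, 1, 0, 0, 0, 0], [0, 0, 0, 0, 1, 0, 0, 0], [0, 0, 0, 0, 0, 1, 0, 0], [0, 0, 0, 0, 0, 0, 1, 0], [0, 0, 0, 0, 0, 0, 0, 1]],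
  [[1, 3, 3, 3, 3, 3, 3, 3], [1, 1, 3, 3, 0, 4, 3, 4], [1, 3, 0, 3, 3, 1, 4, 4], [1, 3, 3, 4, 4, 0, 1, 3], [1, 0, 3, 4, 3, 3, 4, 1], [1, 4, 1, 0, 3, 4, 3, 3], [1, 3, 4, 1, 4, 3, 3, 0], [1, 4, 4, 3, 1, 3, 0, 3]],
  [[1, 2, 3, 2, 3, 2, 3, 2], [1, 4, 3, 2, 0, 1, 3, 1], [1, 2, 3, 1, 4, 0, 1, 2], [1, 2, 0, 2, 3, 4, 4, 1], [1, 1, 1, 0, 3, 1, 3, 2], [1, 0, 3, 1, 3, 2, 4, 4], [1, 1, 4, 2, 1, 2, 0, 2], [1, 2, 4, 4, 4, 2, 3, 0]],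
  [[1, 3, 3, 3, 2, 2, 2, 2], [1, 3, 0, 3, 2, 4, 1, 1], [1, 3, 3, 4, 1, 0, 4, 2], [1, 1, 3, 3, 0, 1, 2, 1], [1, 3, 4, 1, 1, 2, 2, 0], [1, 4, 4, 3, 4, 2, 0, 2], [1, 0, 3, 4, 2, 2, 1, 4], [1, 4, 1, 0, 2, 1, 2, 2]],
  [[1, 2, 3, 2, 2, 3, 2, 3], [1, 2, 3, 1, 1, 0, 4, 3], [1, 2, 0, 2, 2, 1, 1, 4], [1, 4, 3, 2, 0, 4, 2, 4], [1, 1, 4, 2, 4, 3, 0, 3], [1, 2, 4, 4, 1, 3, 2, 0], [1, 1, 1, 0, 2, 4, 2, 3], [1, 0, 3, 1, 2, 3, 1, 1]],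
  [[1, 3, 2, 2, 3, 3, 2, 2], [1, 0, 2, 1, 3, 3, 1, 4], [1, 4, 4, 0, 3, 4, 2, 2], [1, 3, 1, 4, 4, 3, 2, 0], [1, 4, 1, 2, 1, 3, 0, 2], [1, 1, 2, 2, 0, 4, 2, 1], [1, 3, 0, 2, 3, 1, 1, 1], [1, 3, 2, 1, 4, 0, 4, 2]],
  [[1, 2, 2, 3, 3, 2, 2, 3], [1, 1, 4, 0, 3, 1, 2, 3], [1, 0, 2, 4, 3, 2, 1, 1], [1, 1, 1, 3, 1, 2, 0, 3], [1, 2, 1, 1, 4, 2, 2, 0], [1, 4, 2, 3, 0, 1, 2, 4], [1, 2, 2, 4, 4, 0, 4, 3], [1, 2, 0, 3, 3, 4, 1, 4]],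
  [[1, 3, 2, 2, 2, 2, 3, 3], [1, 3, 1, 4, 1, 2, 3, 0], [1, 4, 1, 2, 4, 2, 0, 3], [1, 0, 2, 1, 2, 2, 4, 1], [1, 4, 4, 0, 2, 1, 3, 3], [1, 3, 0, 2, 2, 4, 4, 4], [1, 3, 2, 1, 1, 0, 1, 3], [1, 1, 2, 2, 0, 1, 3, 4]],
  [[1, 2, 2, 3, 2, 3, 3, 2], [1, 1, 1, 3, 4, 3, 0, 2], [1, 2, 1, 1, 1, 3, 3, 0], [1, 1, 4, 0, 2, 4, 3, 2], [1, 0, 2, 4, 2, 3, 4, 4], [1, 2, 2, 4, 1, 0, 1, 2], [1, 2, 0, 3, 2, 1, 4, 1], [1, 4, 2, 3, 0, 4, 3, 1]],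
  [[1, 1, 2, 4, 1, 1, 1, 4], [1, 1, 2, 3, 1, 3, 0, 2], [0, 1, 2, 4, 3, 3, 1, 3], [1, 4, 4, 3, 2, 0, 1, 3], [1, 3, 2, 0, 3, 2, 1, 4], [1, 3, 2, 4, 2, 1, 3, 0], [1, 0, 1, 1, 3, 3, 3, 1], [1, 2, 4, 4, 0, 2, 4, 3]],
  [[1, 4, 2, 1, 1, 4, 1, 1], [1, 4, 2, 2, 1, 2, 0, 3], [1, 1, 4, 2, 2, 0, 1, 2], [0, 1, 3, 4, 2, 3, 4, 3], [1, 2, 2, 0, 3, 3, 1, 1], [1, 2, 2, 1, 2, 4, 3, 0], [1, 0, 1, 4, 3, 2, 3, 4], [1, 3, 4, 1, 0, 3, 4, 2]],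
  [[1, 1, 2, 4, 4, 4, 4, 1], [0, 1, 2, 4, 2, 2, 4, 2], [1, 4, 4, 3, 3, 0, 4, 2], [1, 1, 2, 3, 4, 2, 0, 3], [1, 3, 2, 0, 2, 3, 4, 1], [1, 3, 2, 4, 3, 4, 2, 0], [1, 2, 4, 4, 0, 3, 1, 2], [1, 0, 1, 1, 2, 2, 2, 4]],
  [[1, 4, 2, 1, 4, 1, 4, 4], [1, 1, 4, 2, 3, 0, 4, 3], [0, 1, 3, 4, 3, 2, 1, 2], [1, 4, 2, 2, 4, 3, 0, 2], [1, 2, 2, 0, 2, 2, 4, 4], [1, 2, 2, 1, 3, 1, 2, 0], [1, 3, 4, 1, 0, 2, 1, 3], [1, 0, 1, 4, 2, 3, 2, 1]],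
  [[1, 1, 3, 1, 1, 1, 4, 1], [1, 3, 3, 0, 3, 2, 4, 1], [0, 1, 3, 1, 3, 3, 4, 2], [1, 4, 1, 2, 2, 0, 4, 2], [1, 1, 3, 2, 1, 3, 0, 3], [1, 0, 4, 4, 3, 3, 2, 4], [1, 2, 1, 1, 0, 2, 1, 2], [1, 3, 3, 1, 2, 1, 2, 0]],
  [[1, 4, 3, 4, 1, 4, 4, 4], [0, 1, 2, 1, 2, 3, 1, 2], [1, 2, 3, 0, 3, 3, 4, 4], [1, 1, 1, 3, 2, 0, 4, 3], [1, 4, 3, 3, 1, 2, 0, 2], [1, 0, 4, 1, 3, 2, 2, 1], [1, 3, 1, 4, 0, 3, 1, 3], [1, 2, 3, 4, 2, 4, 2, 0]],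
  [[1, 1, 3, 1, 4, 4, 1, 4], [1, 4, 1, 2, 3, 0, 1, 3], [1, 3, 3, 0, 2, 3, 1, 4], [0, 1, 3, 1, 2, 2, 1, 3], [1, 1, 3, 2, 4, 2, 0, 2], [1, 2, 1, 1, 0, 3, 4, 3], [1, 0, 4, 4, 2, 2, 3, 1], [1, 3, 3, 1, 3, 4, 3, 0]],
  [[1, 4, 3, 4, 4, 1, 1, 1], [1, 2, 3, 0, 2, 2, 1, 1], [1, 1, 1, 3, 3, 0, 1, 2], [0, 1, 2, 1, 3, 2, 4, 3], [1, 4, 3, 3, 4, 3, 0, 3], [1, 3, 1, 4, 0, 2, 4, 2], [1, 0, 4, 1, 2, 3, 3, 4], [1, 2, 3, 4, 3, 1, 3, 0]],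
  [[1, 4, 1, 2, 1, 1, 1, 4], [1, 2, 3, 2, 1, 0, 1, 3], [1, 4, 2, 2, 3, 1, 3, 0], [1, 3, 0, 4, 4, 1, 2, 3], [0, 1, 1, 4, 2, 2, 1, 3], [1, 3, 2, 4, 2, 4, 0, 4], [1, 0, 1, 2, 3, 3, 2, 4], [1, 1, 3, 1, 0, 3, 3, 1]],
  [[1, 1, 1, 3, 1, 4, 1, 1], [1, 1, 2, 3, 3, 4, 3, 0], [1, 3, 3, 3, 1, 0, 1, 2], [1, 2, 0, 1, 4, 4, 2, 2], [0, 1, 4, 4, 3, 2, 4, 3], [1, 2, 2, 1, 2, 1, 0, 1], [1, 0, 1, 3, 3, 2, 2, 1], [1, 4, 3, 4, 0, 2, 3, 4]],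
  [[1, 4, 1, 2, 4, 4, 4, 1], [1, 3, 0, 4, 1, 4, 3, 2], [1, 4, 2, 2, 2, 4, 2, 0], [1, 2, 3, 2, 4, 0, 4, 2], [0, 1, 1, 4, 3, 3, 4, 2], [1, 0, 1, 2, 2, 2, 3, 1], [1, 3, 2, 4, 3, 1, 0, 1], [1, 1, 3, 1, 0, 2, 2, 4]],
  [[1, 1, 1, 3, 4, 1, 4, 4], [1, 1, 2, 3, 2, 1, 2, 0], [1, 2, 0, 1, 1, 1, 3, 3], [1, 3, 3, 3, 4, 0, 4, 3], [0, 1, 4, 4, 2, 3, 1, 2], [1, 0, 1, 3, 2, 3, 3, 4], [1, 2, 2, 1, 3, 4, 0, 4], [1, 4, 3, 4, 0, 3, 2, 1]],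
  [[1, 4, 4, 3, 1, 1, 4, 1], [1, 3, 0, 1, 4, 1, 3, 2], [0, 1, 4, 1, 2, 2, 4, 2], [1, 2, 2, 3, 1, 0, 4, 2], [1, 4, 3, 3, 3, 1, 2, 0], [1, 3, 3, 1, 2, 4, 0, 1], [1, 0, 4, 3, 3, 3, 3, 1], [1, 1, 2, 4, 0, 3, 2, 4]],
  [[1, 1, 4, 2, 1, 4, 4, 4], [0, 1, 1, 1, 3, 2, 1, 2], [1, 2, 0, 4, 4, 4, 3, 3], [1, 1, 3, 2, 3, 4, 2, 0], [1, 3, 2, 2, 1, 0, 4, 3], [1, 2, 3, 4, 2, 1, 0, 4], [1, 0, 4, 2, 3, 2, 3, 4], [1, 4, 2, 1, 0, 2, 2, 1]],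
  [[1, 4, 4, 3, 4, 4, 1, 4], [0, 1, 4, 1, 3, 3, 1, 3], [1, 3, 0, 1, 1, 4, 2, 3], [1, 4, 3, 3, 2, 4, 3, 0], [1, 2, 2, 3, 4, 0, 1, 3], [1, 3, 3, 1, 3, 1, 0, 4], [1, 0, 4, 3, 2, 2, 2, 4], [1, 1, 2, 4, 0, 2, 3, 1]],
  [[1, 1, 4, 2, 4, 1, 1, 1], [0, 1, 1, 1, 2, 3, 4, 3], [1, 2, 0, 4, 1, 1, 2, 2], [1, 1, 3, 2, 2, 1, 3, 0], [1, 3, 2, 2, 4, 0, 1, 2], [1, 2, 3, 4, 3, 4, 0, 1], [1, 0, 4, 2, 2, 3, 2, 1], [1, 4, 2, 1, 0, 3, 3, 4]],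
  [[1, 2, 1, 1, 4, 1, 4, 1], [1, 2, 1, 0, 3, 1, 2, 3], [0, 1, 4, 3, 2, 3, 4, 4], [1, 2, 3, 1, 0, 3, 4, 2], [1, 4, 2, 1, 3, 4, 3, 0], [1, 1, 3, 3, 1, 0, 1, 3], [1, 4, 0, 4, 4, 2, 3, 2], [1, 2, 2, 3, 4, 3, 0, 1]],
  [[1, 3, 1, 4, 4, 4, 4, 4], [0, 1, 1, 3, 3, 3, 1, 4], [1, 3, 1, 0, 3, 4, 2, 2], [1, 3, 3, 4, 0, 2, 4, 3], [1, 1, 2, 4, 3, 1, 3, 0], [1, 4, 3, 2, 1, 0, 1, 2], [1, 1, 0, 1, 4, 3, 3, 3], [1, 3, 2, 2, 4, 2, 0, 4]],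
  [[1, 2, 1, 1, 1, 4, 1, 4], [1, 2, 3, 1, 0, 2, 1, 3], [1, 2, 1, 0, 2, 4, 3, 2], [0, 1, 4, 3, 3, 2, 1, 1], [1, 4, 2, 1, 2, 1, 2, 0], [1, 1, 3, 3, 4, 0, 4, 2], [1, 4, 0, 4, 1, 3, 2, 3], [1, 2, 2, 3, 1, 2, 0, 4]],
  [[1, 3, 1, 4, 1, 1, 1, 1], [1, 3, 3, 4, 0, 3, 1, 2], [0, 1, 1, 3, 2, 2, 4, 1], [1, 3, 1, 0, 2, 1, 3, 3], [1, 1, 2, 4, 2, 4, 2, 0], [1, 4, 3, 2, 4, 0, 4, 3], [1, 1, 0, 1, 1, 2, 2, 2], [1, 3, 2, 2, 1, 3, 0, 1]],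
  [[1, 2, 4, 4, 4, 1, 1, 4], [0, 1, 1, 2, 2, 3, 1, 1], [1, 2, 2, 4, 0, 3, 1, 3], [1, 4, 3, 4, 3, 4, 2, 0], [1, 2, 4, 0, 3, 1, 3, 2], [1, 4, 0, 1, 4, 2, 2, 3], [1, 1, 2, 2, 1, 0, 4, 2], [1, 2, 3, 2, 4, 3, 0, 4]],
  [[1, 3, 4, 1, 4, 4, 1, 1], [1, 3, 2, 1, 0, 2, 1, 2], [0, 1, 4, 2, 3, 3, 4, 1], [1, 1, 3, 1, 3, 1, 2, 0], [1, 3, 4, 0, 3, 4, 3, 3], [1, 1, 0, 4, 4, 3, 2, 2], [1, 4, 2, 3, 1, 0, 4, 3], [1, 3, 3, 3, 4, 2, 0, 1]],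
  [[1, 2, 4, 4, 1, 4, 4, 1], [1, 4, 3, 4, 2, 1, 3, 0], [0, 1, 1, 2, 3, 2, 4, 4], [1, 2, 2, 4, 0, 2, 4, 2], [1, 2, 4, 0, 2, 4, 2, 3], [1, 4, 0, 1, 1, 3, 3, 2], [1, 1, 2, 2, 4, 0, 1, 3], [1, 2, 3, 2, 1, 2, 0, 1]],
  [[1, 3, 4, 1, 1, 1, 4, 4], [1, 1, 3, 1, 2, 4, 3, 0], [1, 3, 2, 1, 0, 3, 4, 3], [0, 1, 4, 2, 2, 2, 1, 4], [1, 3, 4, 0, 2, 1, 2, 2], [1, 1, 0, 4, 1, 2, 3, 3], [1, 4, 2, 3, 4, 0, 1, 2], [1, 3, 3, 3, 1, 3, 0, 4]],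
  [[1, 4, 1, 1, 4, 1, 1, 2], [1, 3, 0, 3, 2, 1, 1, 2], [1, 3, 1, 0, 3, 2, 4, 4], [1, 0, 1, 2, 4, 3, 3, 2], [0, 1, 4, 2, 2, 2, 4, 3], [1, 4, 3, 1, 0, 2, 3, 2], [1, 1, 3, 3, 1, 3, 0, 1], [1, 4, 4, 2, 3, 0, 2, 4]],
  [[1, 1, 1, 4, 4, 4, 1, 3], [1, 2, 1, 0, 3, 3, 4, 1], [1, 2, 0, 2, 2, 4, 1, 3], [1, 0, 1, 3, 4, 2, 3, 3], [0, 1, 1, 2, 3, 2, 1, 3], [1, 1, 3, 4, 0, 3, 3, 3], [1, 4, 3, 2, 1, 2, 0, 4], [1, 1, 4, 3, 3, 0, 2, 1]],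
  [[1, 4, 1, 1, 1, 4, 4, 3], [1, 0, 1, 2, 1, 2, 2, 3], [1, 3, 0, 3, 3, 4, 4, 3], [1, 3, 1, 0, 2, 3, 1, 1], [0, 1, 4, 2, 3, 3, 1, 2], [1, 4, 3, 1, 0, 3, 2, 3], [1, 1, 3, 3, 4, 2, 0, 4], [1, 4, 4, 2, 2, 0, 3, 1]],
  [[1, 1, 1, 4, 1, 1, 4, 2], [1, 0, 1, 3, 1, 3, 2, 2], [1, 2, 1, 0, 2, 2, 1, 4], [1, 2, 0, 2, 3, 1, 4, 2], [0, 1, 1, 2, 2, 3, 4, 2], [1, 1, 3, 4, 0, 2, 2, 2], [1, 4, 3, 2, 4, 3, 0, 1], [1, 1, 4, 3, 2, 0, 3, 4]],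
  [[1, 4, 4, 4, 4, 1, 4, 3], [0, 1, 1, 3, 2, 2, 1, 2], [1, 3, 4, 0, 3, 2, 1, 1], [1, 0, 4, 3, 4, 3, 2, 3], [1, 3, 0, 2, 2, 1, 4, 3], [1, 1, 2, 2, 1, 3, 0, 4], [1, 4, 2, 4, 0, 2, 2, 3], [1, 4, 1, 3, 3, 0, 3, 1]],
  [[1, 1, 4, 1, 4, 4, 4, 2], [1, 2, 4, 0, 3, 3, 1, 4], [0, 1, 4, 3, 3, 2, 4, 2], [1, 0, 4, 2, 4, 2, 2, 2], [1, 2, 0, 3, 2, 4, 4, 2], [1, 4, 2, 3, 1, 2, 0, 1], [1, 1, 2, 1, 0, 3, 2, 2], [1, 1, 1, 2, 3, 0, 3, 4]],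
  [[1, 4, 4, 4, 1, 4, 1, 2], [0, 1, 1, 3, 3, 3, 4, 3], [1, 0, 4, 3, 1, 2, 3, 2], [1, 3, 4, 0, 2, 3, 4, 4], [1, 3, 0, 2, 3, 4, 1, 2], [1, 1, 2, 2, 4, 2, 0, 1], [1, 4, 2, 4, 0, 3, 3, 2], [1, 4, 1, 3, 2, 0, 2, 4]],
  [[1, 1, 4, 1, 1, 1, 1, 3], [1, 0, 4, 2, 1, 3, 3, 3], [0, 1, 4, 3, 2, 3, 1, 3], [1, 2, 4, 0, 2, 2, 4, 1], [1, 2, 0, 3, 3, 1, 1, 3], [1, 4, 2, 3, 4, 3, 0, 4], [1, 1, 2, 1, 0, 2, 3, 3], [1, 1, 1, 2, 2, 0, 2, 1]],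
  [[1, 1, 4, 4, 1, 2, 1, 1], [1, 1, 3, 2, 0, 2, 3, 1], [1, 3, 0, 4, 1, 2, 2, 3], [0, 1, 3, 1, 2, 4, 1, 2], [1, 2, 3, 3, 1, 4, 0, 4], [1, 0, 4, 3, 4, 4, 2, 2], [1, 2, 4, 0, 3, 2, 1, 3], [1, 3, 1, 1, 3, 1, 3, 0]],
  [[1, 4, 4, 1, 1, 3, 1, 4], [1, 2, 0, 1, 1, 3, 2, 2], [1, 4, 3, 3, 0, 3, 3, 4], [0, 1, 2, 1, 3, 4, 4, 2], [1, 3, 3, 2, 1, 1, 0, 1], [1, 0, 4, 2, 4, 1, 2, 3], [1, 3, 4, 0, 3, 3, 1, 2], [1, 2, 1, 4, 3, 4, 3, 0]],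
  [[1, 1, 4, 4, 4, 3, 4, 4], [0, 1, 3, 1, 3, 1, 4, 3], [1, 1, 3, 2, 0, 3, 2, 4], [1, 3, 0, 4, 4, 3, 3, 2], [1, 2, 3, 3, 4, 1, 0, 1], [1, 2, 4, 0, 2, 3, 4, 2], [1, 0, 4, 3, 1, 1, 3, 3], [1, 3, 1, 1, 2, 4, 2, 0]],
  [[1, 4, 4, 1, 4, 2, 4, 1], [0, 1, 2, 1, 2, 1, 1, 3], [1, 2, 0, 1, 4, 2, 3, 3], [1, 4, 3, 3, 0, 2, 2, 1], [1, 3, 3, 2, 4, 4, 0, 4], [1, 3, 4, 0, 2, 2, 4, 3], [1, 0, 4, 2, 1, 4, 3, 2], [1, 2, 1, 4, 2, 1, 2, 0]],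
  [[1, 1, 1, 1, 1, 2, 4, 4], [1, 2, 2, 2, 1, 4, 0, 1], [1, 3, 0, 1, 1, 2, 3, 2], [1, 1, 2, 3, 0, 2, 2, 4], [0, 1, 2, 4, 2, 4, 4, 3], [1, 0, 1, 2, 4, 4, 3, 3], [1, 2, 1, 0, 3, 2, 4, 2], [1, 3, 4, 4, 3, 1, 2, 0]],
  [[1, 4, 1, 4, 1, 3, 4, 1], [1, 3, 2, 3, 1, 1, 0, 4], [1, 2, 0, 4, 1, 3, 3, 3], [1, 4, 2, 2, 0, 3, 2, 1], [0, 1, 3, 4, 3, 4, 1, 3], [1, 0, 1, 3, 4, 1, 3, 2], [1, 3, 1, 0, 3, 3, 4, 3], [1, 2, 4, 1, 3, 4, 2, 0]],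
  [[1, 1, 1, 1, 4, 3, 1, 1], [1, 3, 0, 1, 4, 3, 2, 3], [1, 2, 2, 2, 4, 1, 0, 4], [0, 1, 2, 4, 3, 1, 1, 2], [1, 1, 2, 3, 0, 3, 3, 1], [1, 2, 1, 0, 2, 3, 1, 3], [1, 0, 1, 2, 1, 1, 2, 2], [1, 3, 4, 4, 2, 4, 3, 0]],
  [[1, 4, 1, 4, 4, 2, 1, 4], [1, 3, 2, 3, 4, 4, 0, 1], [1, 2, 0, 4, 4, 2, 2, 2], [0, 1, 3, 4, 2, 1, 4, 2], [1, 4, 2, 2, 0, 2, 3, 4], [1, 3, 1, 0, 2, 2, 1, 2], [1, 0, 1, 3, 1, 4, 2, 3], [1, 2, 4, 1, 2, 1, 3, 0]],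
  [[1, 1, 1, 1, 2, 4, 4, 1], [1, 3, 1, 1, 2, 2, 3, 0], [0, 1, 2, 1, 4, 1, 3, 2], [1, 2, 3, 3, 2, 4, 0, 1], [1, 0, 4, 2, 4, 3, 3, 1], [1, 3, 0, 3, 1, 1, 1, 3], [1, 2, 2, 0, 4, 3, 4, 4], [1, 1, 3, 2, 2, 0, 4, 3]],
  [[1, 4, 1, 4, 2, 1, 4, 4], [0, 1, 3, 1, 1, 1, 2, 2], [1, 2, 1, 4, 2, 3, 3, 0], [1, 0, 4, 3, 4, 2, 3, 4], [1, 3, 3, 2, 2, 1, 0, 4], [1, 2, 0, 2, 1, 4, 1, 2], [1, 3, 2, 0, 4, 2, 4, 1], [1, 4, 3, 3, 2, 0, 4, 2]],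
  [[1, 1, 1, 1, 3, 1, 1, 4], [1, 2, 3, 3, 3, 1, 0, 4], [1, 0, 4, 2, 1, 2, 2, 4], [1, 3, 1, 1, 3, 3, 2, 0], [0, 1, 2, 1, 1, 4, 2, 3], [1, 3, 0, 3, 4, 4, 4, 2], [1, 2, 2, 0, 1, 2, 1, 1], [1, 1, 3, 2, 3, 0, 1, 2]],
  [[1, 4, 1, 4, 3, 4, 1, 1], [1, 0, 4, 3, 1, 3, 2, 1], [1, 3, 3, 2, 3, 4, 0, 1], [0, 1, 3, 1, 4, 4, 3, 3], [1, 2, 1, 4, 3, 2, 2, 0], [1, 2, 0, 2, 4, 1, 4, 3], [1, 3, 2, 0, 1, 3, 1, 4], [1, 4, 3, 3, 3, 0, 1, 3]],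
  [[1, 1, 4, 4, 2, 4, 1, 4], [1, 0, 1, 3, 4, 3, 2, 4], [1, 2, 2, 2, 2, 4, 0, 4], [0, 1, 3, 4, 4, 1, 2, 3], [1, 3, 4, 4, 2, 2, 2, 0], [1, 3, 0, 2, 1, 1, 4, 2], [1, 2, 3, 0, 4, 3, 1, 1], [1, 1, 2, 3, 2, 0, 1, 2]],
  [[1, 4, 4, 1, 2, 1, 1, 1], [1, 0, 1, 2, 4, 2, 2, 1], [0, 1, 2, 4, 1, 1, 3, 3], [1, 3, 2, 3, 2, 1, 0, 1], [1, 2, 4, 1, 2, 3, 2, 0], [1, 2, 0, 3, 1, 4, 4, 3], [1, 3, 3, 0, 4, 2, 1, 4], [1, 4, 2, 2, 2, 0, 1, 3]],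
  [[1, 1, 4, 4, 3, 1, 4, 1], [1, 2, 2, 2, 3, 1, 0, 1], [0, 1, 3, 4, 1, 4, 3, 2], [1, 0, 1, 3, 1, 2, 3, 1], [1, 3, 4, 4, 3, 3, 3, 0], [1, 2, 3, 0, 1, 2, 4, 4], [1, 3, 0, 2, 4, 4, 1, 3], [1, 1, 2, 3, 3, 0, 4, 3]],
  [[1, 4, 4, 1, 3, 4, 4, 4], [0, 1, 2, 4, 4, 4, 2, 2], [1, 3, 2, 3, 3, 4, 0, 4], [1, 0, 1, 2, 1, 3, 3, 4], [1, 2, 4, 1, 3, 2, 3, 0], [1, 3, 3, 0, 1, 3, 4, 1], [1, 2, 0, 3, 4, 1, 1, 2], [1, 4, 2, 2, 3, 0, 4, 2]],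
  [[1, 1, 4, 1, 1, 4, 2, 1], [1, 0, 2, 1, 3, 3, 2, 1], [1, 1, 3, 4, 0, 3, 4, 2], [0, 1, 3, 1, 3, 4, 2, 3], [1, 1, 4, 3, 2, 0, 2, 3], [1, 3, 0, 3, 1, 4, 2, 2], [1, 3, 1, 0, 3, 1, 1, 3], [1, 4, 3, 2, 2, 4, 4, 0]],
  [[1, 4, 4, 4, 1, 1, 2, 4], [1, 4, 3, 1, 0, 2, 4, 3], [1, 0, 2, 4, 3, 2, 2, 4], [0, 1, 2, 1, 2, 4, 3, 3], [1, 4, 4, 2, 2, 0, 2, 2], [1, 2, 0, 2, 1, 1, 2, 3], [1, 2, 1, 0, 3, 4, 1, 2], [1, 1, 3, 3, 2, 1, 4, 0]],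
  [[1, 1, 4, 1, 4, 1, 3, 4], [1, 1, 3, 4, 0, 2, 1, 3], [0, 1, 3, 1, 2, 1, 3, 2], [1, 0, 2, 1, 2, 2, 3, 4], [1, 1, 4, 3, 3, 0, 3, 2], [1, 3, 1, 0, 2, 4, 4, 2], [1, 3, 0, 3, 4, 1, 3, 3], [1, 4, 3, 2, 3, 1, 1, 0]],
  [[1, 4, 4, 4, 4, 4, 3, 1], [0, 1, 2, 1, 3, 1, 2, 2], [1, 4, 3, 1, 0, 3, 1, 2], [1, 0, 2, 4, 2, 3, 3, 1], [1, 4, 4, 2, 3, 0, 3, 3], [1, 2, 1, 0, 2, 1, 4, 3], [1, 2, 0, 2, 4, 4, 3, 2], [1, 1, 3, 3, 3, 4, 1, 0]],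
  [[1, 1, 1, 4, 1, 4, 3, 4], [1, 1, 1, 2, 2, 0, 3, 2], [0, 1, 2, 4, 3, 4, 3, 2], [1, 0, 3, 4, 3, 3, 3, 4], [1, 1, 2, 1, 0, 3, 1, 3], [1, 3, 4, 0, 3, 1, 4, 2], [1, 3, 0, 2, 1, 4, 3, 3], [1, 4, 2, 3, 2, 4, 1, 0]],
  [[1, 4, 1, 1, 1, 1, 3, 1], [1, 4, 1, 3, 2, 0, 3, 3], [0, 1, 3, 4, 2, 4, 2, 2], [1, 4, 2, 4, 0, 2, 1, 2], [1, 0, 3, 1, 3, 2, 3, 1], [1, 2, 4, 0, 3, 4, 4, 3], [1, 2, 0, 3, 1, 1, 3, 2], [1, 1, 2, 2, 2, 1, 1, 0]],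
  [[1, 1, 1, 4, 4, 1, 2, 1], [0, 1, 2, 4, 2, 1, 2, 3], [1, 1, 1, 2, 3, 0, 2, 3], [1, 1, 2, 1, 0, 2, 4, 2], [1, 0, 3, 4, 2, 2, 2, 1], [1, 3, 0, 2, 4, 1, 2, 2], [1, 3, 4, 0, 2, 4, 1, 3], [1, 4, 2, 3, 3, 1, 4, 0]],
  [[1, 4, 1, 1, 4, 4, 2, 4], [0, 1, 3, 4, 3, 1, 3, 3], [1, 4, 1, 3, 3, 0, 2, 2], [1, 4, 2, 4, 0, 3, 4, 3], [1, 0, 3, 1, 2, 3, 2, 4], [1, 2, 0, 3, 4, 4, 2, 3], [1, 2, 4, 0, 2, 1, 1, 2], [1, 1, 2, 2, 3, 4, 4, 0]]]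

def slots : List (List Nat) := [
  [0, 0, 0, 0, 0, 0, 0, 0, 0, 2, 2, 2, 2, 2, 2, 2, 2, 3, 3, 3, 3, 3, 3, 3, 3, 1, 1, 1, 1, 1, 1, 1, 1, 7, 7, 7, 7, 7, 7, 7, 7, 5, 5, 5, 5, 5, 5, 5, 5, 4, 4, 4, 4, 4, 4, 4, 4, 6, 6, 6, 6, 6, 6, 6, 6],
  [0, 0, 1, 2, 3, 4, 5, 6, 7, 0, 1, 6, 2, 2, 4, 4, 6, 0, 5, 5, 4, 1, 4, 1, 7, 0, 3, 2, 4, 7, 7, 4, 3, 0, 7, 1, 3, 7, 6, 1, 6, 0, 5, 6, 5, 4, 6, 3, 3, 0, 3, 1, 2, 1, 5, 3, 2, 0, 7, 5, 5, 2, 7, 6, 2],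
  [0, 1, 0, 2, 3, 4, 5, 6, 7, 1, 0, 3, 7, 5, 3, 7, 5, 4, 0, 5, 4, 5, 1, 6, 1, 2, 0, 5, 3, 6, 6, 2, 5, 6, 0, 2, 1, 7, 6, 7, 1, 4, 0, 4, 7, 7, 5, 2, 2, 2, 0, 3, 1, 4, 1, 3, 2, 6, 0, 4, 4, 6, 3, 3, 7],
  [0, 1, 2, 0, 3, 4, 5, 6, 7, 4, 1, 0, 3, 6, 4, 1, 6, 7, 6, 0, 7, 3, 5, 3, 6, 1, 6, 0, 2, 6, 2, 5, 5, 3, 2, 0, 5, 3, 4, 5, 4, 4, 7, 0, 7, 2, 2, 6, 4, 3, 1, 0, 2, 2, 1, 3, 7, 7, 7, 0, 5, 4, 1, 1, 5],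
  [0, 1, 2, 3, 0, 4, 5, 6, 7, 2, 5, 3, 0, 5, 7, 7, 2, 7, 6, 6, 0, 4, 3, 7, 3, 7, 2, 1, 0, 1, 7, 4, 4, 1, 3, 4, 0, 5, 3, 5, 4, 6, 5, 6, 0, 1, 1, 5, 7, 2, 3, 1, 0, 2, 1, 6, 3, 6, 6, 4, 0, 2, 5, 4, 2],
  [0, 1, 2, 3, 4, 0, 5, 6, 7, 6, 1, 1, 3, 0, 5, 3, 6, 5, 1, 5, 4, 0, 2, 2, 1, 4, 4, 1, 7, 0, 7, 6, 1, 4, 3, 5, 3, 0, 4, 5, 7, 1, 3, 7, 7, 0, 2, 3, 2, 5, 2, 7, 6, 0, 7, 5, 6, 6, 4, 3, 6, 0, 4, 2, 2],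
  [0, 1, 2, 3, 4, 5, 0, 6, 7, 2, 7, 4, 2, 5, 0, 7, 4, 2, 5, 3, 5, 1, 0, 2, 1, 3, 3, 6, 2, 6, 0, 2, 7, 4, 3, 4, 5, 3, 0, 6, 5, 4, 2, 6, 6, 1, 0, 1, 4, 1, 5, 7, 6, 6, 0, 7, 5, 3, 7, 7, 4, 3, 0, 1, 1],
  [0, 1, 2, 3, 4, 5, 6, 0, 7, 3, 1, 5, 3, 1, 5, 0, 7, 7, 2, 7, 3, 4, 3, 0, 4, 3, 6, 2, 2, 5, 3, 0, 6, 7, 1, 2, 1, 7, 6, 0, 2, 6, 6, 3, 1, 1, 4, 0, 4, 6, 5, 7, 4, 7, 5, 0, 6, 1, 5, 5, 2, 4, 4, 0, 2],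
  [0, 1, 2, 3, 4, 5, 6, 7, 0, 2, 4, 4, 6, 6, 2, 7, 0, 1, 7, 4, 7, 4, 3, 3, 0, 5, 4, 1, 1, 4, 6, 5, 0, 2, 7, 2, 1, 5, 7, 1, 0, 5, 5, 2, 4, 3, 2, 3, 0, 6, 5, 3, 7, 6, 7, 5, 0, 6, 2, 1, 6, 3, 3, 1, 0],
  [0, 1, 0, 2, 3, 4, 2, 3, 4, 0, 1, 2, 5, 4, 6, 3, 7, 4, 2, 5, 0, 5, 4, 7, 7, 6, 4, 0, 6, 1, 7, 1, 4, 3, 4, 5, 5, 6, 0, 6, 3, 7, 3, 1, 3, 0, 7, 1, 5, 2, 3, 7, 2, 6, 6, 7, 0, 5, 2, 1, 6, 1, 2, 0, 5],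
  [0, 0, 1, 2, 3, 3, 4, 4, 2, 1, 0, 5, 3, 6, 4, 7, 2, 3, 4, 0, 5, 4, 5, 7, 7, 4, 6, 6, 0, 7, 1, 4, 1, 4, 2, 5, 5, 0, 6, 2, 6, 2, 7, 2, 1, 7, 0, 5, 1, 2, 3, 3, 7, 6, 6, 0, 7, 3, 5, 6, 1, 3, 1, 5, 0],
  [0, 1, 2, 3, 0, 2, 4, 4, 1, 1, 5, 0, 3, 2, 6, 4, 7, 5, 0, 4, 1, 6, 6, 5, 4, 0, 7, 7, 4, 3, 4, 3, 6, 5, 5, 2, 4, 7, 2, 7, 0, 3, 2, 6, 2, 3, 5, 0, 6, 6, 1, 1, 2, 6, 0, 7, 7, 3, 7, 5, 1, 0, 5, 3, 1],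
  [0, 1, 2, 0, 3, 4, 1, 2, 4, 5, 2, 3, 0, 6, 1, 7, 4, 0, 5, 2, 4, 6, 6, 4, 5, 7, 0, 4, 7, 4, 3, 6, 3, 5, 5, 4, 1, 1, 7, 0, 7, 1, 3, 1, 6, 5, 3, 6, 0, 2, 6, 1, 2, 0, 6, 7, 7, 7, 3, 2, 5, 5, 0, 2, 3],
  [0, 1, 2, 3, 1, 4, 0, 2, 3, 1, 5, 3, 6, 0, 4, 2, 7, 7, 1, 6, 6, 1, 2, 7, 0, 4, 6, 4, 1, 5, 1, 0, 5, 5, 0, 5, 3, 3, 1, 7, 7, 0, 6, 4, 7, 6, 3, 4, 3, 5, 5, 6, 0, 2, 3, 6, 2, 4, 2, 0, 7, 7, 2, 4, 5],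
  [0, 1, 2, 2, 3, 0, 4, 3, 1, 5, 2, 6, 3, 4, 0, 7, 1, 2, 7, 6, 6, 1, 2, 0, 7, 6, 4, 2, 4, 2, 5, 5, 0, 0, 5, 3, 5, 2, 3, 7, 7, 6, 0, 7, 4, 3, 6, 3, 4, 5, 5, 0, 6, 3, 1, 1, 6, 1, 4, 7, 0, 1, 7, 5, 4],
  [0, 1, 2, 2, 3, 3, 1, 4, 0, 1, 5, 2, 6, 3, 7, 0, 4, 5, 5, 7, 2, 7, 0, 2, 3, 4, 2, 4, 5, 0, 6, 6, 2, 6, 1, 6, 0, 7, 7, 1, 2, 4, 7, 0, 5, 4, 1, 5, 1, 5, 0, 6, 6, 5, 3, 3, 1, 0, 7, 4, 3, 4, 6, 7, 3],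
  [0, 1, 2, 3, 1, 2, 3, 0, 4, 5, 2, 6, 1, 7, 3, 4, 0, 5, 5, 1, 7, 0, 7, 3, 1, 1, 4, 5, 4, 6, 0, 1, 6, 2, 6, 0, 6, 7, 7, 1, 2, 7, 4, 5, 0, 2, 4, 2, 5, 0, 5, 6, 6, 3, 5, 2, 3, 7, 0, 3, 4, 6, 4, 3, 7],
  [0, 1, 2, 3, 2, 3, 4, 4, 0, 5, 0, 3, 6, 1, 1, 5, 3, 0, 2, 6, 5, 3, 4, 7, 1, 3, 7, 6, 3, 7, 6, 0, 2, 2, 6, 0, 5, 5, 6, 2, 4, 6, 1, 7, 6, 0, 1, 4, 4, 7, 1, 7, 2, 1, 0, 5, 2, 4, 7, 4, 0, 5, 5, 7, 3],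
  [0, 1, 2, 1, 3, 4, 3, 0, 4, 0, 5, 6, 3, 2, 2, 3, 5, 1, 0, 5, 6, 4, 3, 2, 7, 7, 3, 3, 6, 6, 7, 1, 0, 6, 1, 5, 0, 6, 5, 4, 1, 2, 6, 6, 7, 2, 0, 4, 4, 2, 7, 1, 7, 0, 2, 1, 5, 7, 4, 0, 4, 5, 5, 3, 7],
  [0, 1, 2, 3, 2, 4, 0, 1, 4, 1, 5, 6, 0, 6, 1, 3, 3, 5, 6, 0, 2, 7, 3, 1, 4, 5, 1, 1, 7, 0, 2, 7, 5, 0, 6, 2, 5, 2, 4, 6, 5, 7, 5, 5, 3, 4, 4, 0, 3, 7, 2, 7, 3, 6, 2, 3, 0, 4, 0, 4, 7, 7, 1, 6, 6],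
  [0, 1, 2, 1, 3, 0, 4, 4, 2, 5, 2, 0, 6, 2, 6, 3, 3, 6, 5, 1, 0, 3, 7, 4, 2, 2, 5, 7, 2, 1, 0, 5, 7, 6, 0, 5, 1, 4, 1, 5, 6, 5, 7, 3, 5, 4, 4, 3, 0, 1, 7, 3, 7, 1, 6, 0, 3, 0, 4, 7, 4, 2, 7, 6, 6],
  [0, 1, 2, 2, 0, 3, 4, 1, 4, 3, 3, 5, 1, 5, 0, 1, 6, 1, 2, 7, 3, 0, 4, 6, 5, 7, 6, 0, 4, 1, 7, 6, 1, 5, 6, 4, 2, 4, 6, 0, 5, 0, 3, 2, 2, 6, 3, 7, 6, 3, 0, 5, 4, 7, 3, 7, 4, 5, 5, 7, 1, 2, 7, 2, 0],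
  [0, 1, 2, 0, 1, 3, 4, 3, 2, 4, 4, 2, 5, 0, 5, 6, 2, 1, 2, 4, 7, 3, 0, 5, 6, 6, 7, 3, 0, 7, 2, 2, 6, 6, 5, 1, 3, 6, 3, 5, 0, 4, 0, 1, 1, 4, 6, 6, 7, 0, 4, 3, 5, 4, 7, 3, 7, 5, 5, 2, 7, 7, 1, 0, 1],
  [0, 1, 0, 2, 1, 2, 3, 4, 3, 5, 2, 4, 4, 2, 6, 5, 0, 7, 4, 2, 1, 6, 5, 0, 3, 0, 3, 7, 6, 6, 2, 2, 7, 3, 1, 5, 6, 0, 5, 3, 6, 1, 1, 0, 4, 7, 6, 6, 4, 5, 3, 4, 0, 7, 3, 7, 4, 7, 2, 5, 5, 1, 0, 1, 7],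
  [0, 0, 1, 1, 2, 3, 2, 3, 4, 2, 5, 4, 4, 6, 2, 0, 5, 4, 7, 1, 2, 5, 6, 3, 0, 3, 0, 6, 7, 2, 6, 7, 2, 1, 3, 6, 5, 5, 0, 6, 3, 1, 1, 4, 0, 6, 7, 4, 6, 3, 5, 0, 4, 3, 7, 4, 7, 2, 7, 5, 5, 0, 1, 7, 1],
  [0, 1, 2, 0, 3, 2, 3, 4, 4, 2, 5, 4, 5, 6, 0, 2, 6, 7, 2, 2, 1, 1, 7, 5, 0, 0, 5, 1, 3, 2, 6, 7, 4, 6, 6, 4, 0, 1, 7, 4, 1, 5, 6, 3, 1, 0, 3, 5, 1, 3, 3, 2, 7, 7, 6, 0, 6, 4, 0, 3, 5, 7, 4, 7, 5],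
  [0, 1, 2, 3, 0, 3, 1, 4, 4, 5, 1, 5, 4, 0, 6, 6, 1, 1, 7, 2, 1, 7, 2, 0, 5, 5, 0, 3, 2, 6, 1, 4, 7, 6, 6, 0, 4, 7, 2, 2, 4, 6, 5, 2, 3, 3, 0, 2, 5, 3, 3, 7, 1, 6, 7, 6, 0, 0, 4, 5, 3, 4, 7, 5, 7],
  [0, 0, 1, 2, 3, 4, 4, 3, 1, 4, 5, 3, 5, 3, 6, 6, 0, 3, 2, 7, 3, 5, 0, 2, 7, 2, 1, 0, 5, 7, 4, 3, 6, 4, 0, 6, 6, 4, 2, 2, 7, 1, 2, 5, 6, 5, 2, 0, 1, 3, 7, 1, 1, 0, 6, 7, 6, 1, 5, 4, 0, 7, 5, 7, 4],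
  [0, 1, 0, 2, 3, 4, 4, 1, 2, 5, 4, 5, 2, 6, 2, 0, 6, 3, 2, 2, 7, 0, 5, 7, 3, 1, 3, 5, 0, 4, 7, 6, 2, 0, 4, 6, 6, 3, 4, 7, 3, 3, 1, 6, 5, 3, 5, 1, 0, 7, 2, 1, 1, 6, 0, 6, 7, 5, 1, 0, 4, 5, 7, 4, 7],
  [0, 1, 2, 3, 3, 4, 1, 0, 2, 5, 0, 1, 5, 1, 6, 3, 6, 4, 7, 6, 0, 7, 1, 1, 4, 1, 5, 7, 3, 0, 6, 4, 2, 4, 7, 3, 4, 5, 5, 3, 0, 0, 2, 6, 4, 6, 5, 2, 4, 7, 5, 0, 5, 2, 2, 1, 7, 7, 3, 7, 6, 3, 0, 2, 6],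
  [0, 1, 2, 3, 3, 2, 4, 1, 0, 0, 5, 5, 2, 6, 2, 6, 3, 7, 4, 0, 6, 2, 7, 4, 2, 5, 2, 3, 7, 6, 0, 1, 4, 7, 4, 4, 3, 5, 5, 0, 3, 1, 0, 4, 6, 5, 6, 4, 1, 5, 7, 5, 0, 1, 1, 7, 2, 3, 7, 6, 7, 0, 3, 6, 1],
  [0, 1, 1, 2, 3, 0, 3, 4, 2, 2, 5, 5, 0, 1, 6, 2, 6, 6, 0, 4, 7, 2, 4, 7, 2, 7, 1, 2, 5, 4, 3, 0, 6, 1, 4, 4, 7, 1, 0, 5, 5, 6, 4, 0, 3, 3, 4, 6, 5, 0, 5, 7, 5, 2, 7, 3, 3, 7, 6, 7, 1, 3, 6, 1, 0],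
  [0, 1, 1, 2, 3, 2, 0, 3, 4, 5, 3, 0, 5, 6, 1, 6, 3, 0, 6, 7, 4, 4, 3, 3, 7, 1, 7, 5, 3, 2, 4, 6, 0, 4, 1, 7, 4, 0, 1, 5, 5, 4, 6, 2, 0, 4, 2, 5, 6, 5, 0, 5, 7, 7, 3, 2, 2, 6, 7, 1, 7, 6, 2, 0, 1],
  [0, 1, 2, 3, 0, 4, 2, 4, 3, 5, 0, 5, 4, 4, 6, 1, 1, 7, 1, 5, 2, 7, 2, 1, 0, 3, 7, 7, 4, 3, 0, 5, 5, 0, 2, 7, 1, 6, 5, 4, 3, 4, 7, 0, 2, 6, 4, 7, 6, 2, 6, 2, 3, 0, 5, 5, 6, 6, 1, 3, 3, 7, 6, 0, 1],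
  [0, 1, 2, 0, 3, 1, 4, 3, 4, 0, 5, 4, 5, 6, 4, 2, 2, 2, 7, 1, 5, 1, 7, 0, 2, 7, 3, 4, 7, 0, 3, 5, 5, 1, 0, 2, 7, 5, 6, 3, 4, 7, 4, 1, 0, 4, 6, 6, 7, 6, 1, 3, 1, 5, 0, 6, 5, 2, 6, 3, 3, 6, 7, 2, 0],
  [0, 1, 0, 2, 3, 4, 1, 4, 3, 5, 4, 5, 0, 2, 2, 4, 6, 5, 3, 7, 2, 2, 0, 7, 3, 7, 4, 1, 7, 5, 5, 1, 0, 7, 2, 0, 3, 4, 1, 6, 5, 0, 3, 4, 7, 7, 6, 6, 4, 3, 1, 3, 6, 5, 6, 0, 5, 1, 1, 6, 2, 0, 2, 7, 6],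
  [0, 0, 1, 2, 3, 1, 4, 2, 4, 4, 5, 0, 5, 3, 3, 6, 4, 2, 5, 3, 7, 0, 3, 2, 7, 4, 7, 7, 1, 5, 5, 0, 1, 3, 7, 2, 0, 1, 4, 5, 6, 2, 0, 7, 4, 6, 7, 4, 6, 1, 2, 6, 2, 6, 5, 5, 0, 1, 1, 3, 6, 3, 0, 6, 7],
  [0, 1, 2, 1, 3, 4, 2, 3, 0, 1, 5, 4, 4, 6, 0, 6, 1, 7, 2, 4, 0, 7, 4, 6, 2, 3, 0, 6, 6, 3, 7, 7, 1, 5, 6, 1, 3, 0, 2, 7, 4, 5, 1, 7, 5, 1, 7, 0, 2, 0, 6, 6, 5, 2, 5, 2, 3, 7, 5, 0, 4, 5, 4, 3, 3],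
  [0, 1, 2, 3, 2, 1, 4, 0, 3, 5, 2, 4, 4, 0, 6, 2, 6, 1, 7, 0, 4, 4, 7, 1, 6, 0, 3, 6, 6, 7, 3, 2, 7, 6, 5, 3, 2, 1, 0, 4, 7, 2, 5, 5, 7, 7, 2, 1, 0, 6, 0, 5, 6, 5, 1, 3, 1, 5, 7, 4, 0, 4, 5, 3, 3],
  [0, 1, 2, 1, 3, 2, 0, 4, 3, 4, 4, 1, 5, 6, 1, 6, 0, 4, 0, 7, 3, 6, 3, 7, 4, 6, 6, 2, 0, 7, 1, 2, 7, 1, 2, 5, 6, 7, 4, 0, 3, 7, 5, 5, 1, 0, 3, 1, 7, 6, 5, 0, 6, 3, 2, 3, 5, 0, 4, 7, 5, 2, 2, 5, 4],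
  [0, 1, 2, 3, 2, 0, 1, 3, 4, 4, 4, 5, 2, 2, 6, 0, 6, 0, 4, 3, 7, 3, 6, 4, 7, 6, 6, 0, 1, 2, 7, 7, 1, 1, 2, 6, 5, 4, 7, 3, 0, 5, 7, 2, 5, 3, 0, 7, 2, 5, 6, 6, 0, 1, 3, 5, 3, 4, 0, 5, 7, 1, 1, 4, 5],
  [0, 1, 2, 3, 3, 0, 4, 2, 4, 2, 5, 2, 6, 3, 5, 6, 0, 4, 4, 0, 6, 2, 7, 7, 6, 3, 0, 7, 5, 4, 5, 7, 3, 7, 2, 5, 0, 2, 1, 1, 7, 0, 5, 7, 3, 1, 4, 2, 6, 6, 6, 3, 1, 3, 0, 1, 7, 5, 6, 5, 1, 4, 1, 0, 4],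
  [0, 1, 2, 3, 3, 4, 0, 4, 1, 5, 1, 6, 1, 5, 3, 0, 6, 4, 4, 6, 0, 7, 1, 6, 7, 0, 3, 5, 7, 5, 4, 3, 7, 1, 7, 0, 5, 2, 1, 7, 2, 5, 0, 3, 7, 4, 2, 6, 1, 6, 6, 2, 3, 0, 3, 7, 2, 6, 5, 2, 5, 2, 4, 4, 0],
  [0, 1, 1, 2, 3, 3, 4, 0, 4, 3, 5, 3, 6, 5, 0, 1, 6, 0, 5, 4, 4, 7, 5, 3, 7, 7, 6, 1, 0, 7, 1, 4, 6, 6, 0, 7, 3, 2, 7, 3, 2, 7, 1, 0, 6, 3, 5, 2, 4, 1, 2, 5, 5, 2, 7, 1, 0, 6, 2, 6, 5, 0, 4, 4, 2],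
  [0, 1, 1, 2, 3, 4, 2, 4, 0, 5, 2, 6, 2, 0, 5, 6, 1, 5, 0, 4, 4, 5, 7, 7, 2, 6, 7, 0, 1, 1, 7, 6, 4, 0, 6, 2, 7, 7, 3, 3, 2, 1, 7, 6, 0, 5, 2, 4, 3, 3, 1, 5, 5, 7, 3, 0, 1, 3, 6, 5, 6, 4, 0, 3, 4],
  [0, 0, 1, 2, 1, 3, 2, 4, 4, 4, 5, 6, 0, 2, 5, 2, 6, 2, 7, 7, 6, 1, 1, 0, 6, 1, 5, 7, 4, 4, 0, 7, 5, 2, 3, 3, 7, 7, 2, 5, 0, 3, 1, 2, 6, 0, 5, 7, 4, 4, 0, 3, 7, 6, 6, 4, 3, 1, 3, 0, 1, 5, 6, 5, 3],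
  [0, 1, 0, 1, 2, 2, 3, 4, 4, 5, 4, 0, 6, 5, 2, 6, 2, 7, 2, 6, 7, 1, 1, 6, 0, 5, 1, 4, 7, 0, 4, 5, 7, 3, 2, 7, 3, 2, 7, 0, 5, 1, 3, 6, 2, 5, 0, 4, 7, 0, 4, 7, 3, 6, 6, 3, 4, 3, 1, 1, 0, 6, 5, 3, 5],
  [0, 1, 2, 0, 2, 3, 3, 4, 1, 5, 0, 3, 6, 1, 5, 1, 6, 7, 5, 1, 7, 0, 5, 2, 2, 7, 3, 2, 6, 7, 6, 3, 0, 4, 7, 1, 4, 6, 0, 7, 1, 1, 5, 4, 2, 7, 3, 0, 6, 4, 7, 3, 0, 3, 4, 5, 5, 0, 2, 2, 4, 6, 4, 6, 5],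
  [0, 1, 2, 1, 0, 3, 3, 2, 4, 0, 5, 6, 3, 5, 2, 6, 2, 5, 7, 7, 2, 5, 0, 1, 1, 3, 7, 6, 1, 6, 7, 0, 3, 7, 4, 4, 2, 0, 6, 2, 7, 5, 2, 1, 4, 3, 7, 6, 0, 7, 4, 0, 3, 4, 3, 5, 5, 1, 0, 4, 1, 4, 6, 5, 6],
  [0, 1, 2, 3, 4, 4, 0, 3, 2, 5, 0, 1, 1, 5, 3, 3, 6, 2, 6, 5, 6, 2, 4, 0, 5, 6, 1, 0, 1, 4, 4, 7, 6, 7, 1, 1, 0, 5, 2, 7, 2, 4, 7, 5, 5, 7, 3, 4, 0, 0, 2, 3, 4, 7, 1, 6, 5, 3, 7, 7, 6, 0, 2, 6, 3],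
  [0, 1, 2, 3, 4, 0, 3, 1, 4, 0, 5, 2, 2, 4, 5, 6, 4, 6, 1, 6, 5, 3, 1, 5, 0, 2, 6, 2, 0, 3, 3, 6, 7, 2, 7, 0, 2, 1, 5, 1, 7, 7, 3, 5, 5, 4, 7, 0, 3, 1, 0, 3, 4, 2, 7, 5, 6, 7, 4, 6, 7, 1, 0, 4, 6],
  [0, 1, 2, 3, 4, 1, 4, 2, 0, 3, 3, 5, 0, 1, 6, 5, 1, 5, 6, 4, 6, 0, 5, 4, 2, 0, 3, 6, 3, 7, 6, 2, 2, 3, 0, 7, 3, 7, 4, 5, 4, 5, 5, 2, 7, 2, 0, 7, 1, 1, 2, 0, 4, 6, 5, 7, 3, 7, 6, 1, 7, 6, 1, 0, 4],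
  [0, 1, 2, 3, 4, 3, 2, 0, 1, 4, 4, 0, 5, 6, 2, 2, 5, 6, 5, 6, 3, 5, 0, 1, 3, 4, 0, 4, 6, 6, 7, 1, 1, 0, 4, 4, 7, 3, 7, 3, 5, 5, 5, 7, 1, 0, 1, 2, 7, 1, 2, 3, 0, 5, 6, 4, 7, 6, 7, 7, 2, 2, 6, 3, 0],
  [0, 1, 0, 2, 3, 4, 3, 2, 1, 5, 2, 2, 6, 5, 0, 4, 4, 3, 1, 0, 5, 3, 6, 5, 6, 1, 1, 7, 6, 6, 4, 0, 4, 5, 3, 7, 3, 7, 4, 4, 0, 7, 2, 1, 0, 1, 7, 5, 5, 7, 4, 6, 5, 0, 3, 2, 1, 0, 3, 6, 2, 2, 7, 7, 6],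
  [0, 0, 1, 2, 3, 2, 4, 1, 3, 3, 5, 6, 3, 0, 5, 4, 4, 1, 2, 5, 0, 6, 2, 6, 5, 1, 1, 6, 7, 4, 6, 4, 0, 2, 5, 2, 7, 4, 7, 0, 4, 3, 7, 0, 1, 7, 1, 5, 5, 4, 7, 5, 6, 2, 0, 1, 3, 2, 0, 3, 6, 7, 3, 6, 7],
  [0, 1, 2, 3, 0, 1, 3, 4, 2, 1, 5, 6, 1, 4, 4, 6, 0, 0, 6, 2, 3, 6, 5, 2, 5, 7, 5, 3, 3, 0, 4, 5, 4, 7, 2, 6, 2, 4, 0, 7, 4, 3, 0, 7, 1, 6, 6, 3, 7, 5, 6, 7, 4, 1, 3, 0, 2, 5, 1, 0, 2, 7, 5, 1, 7],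
  [0, 1, 2, 0, 3, 3, 2, 1, 4, 5, 2, 2, 6, 4, 4, 0, 6, 6, 0, 3, 1, 5, 6, 5, 1, 5, 7, 3, 3, 4, 0, 4, 5, 1, 7, 1, 6, 0, 4, 4, 7, 0, 3, 2, 7, 6, 6, 7, 3, 6, 5, 4, 7, 3, 2, 1, 0, 2, 5, 1, 0, 5, 7, 7, 2],
  [0, 1, 2, 2, 3, 4, 4, 0, 3, 2, 5, 6, 0, 2, 6, 4, 5, 6, 6, 1, 7, 4, 1, 4, 0, 5, 6, 0, 3, 5, 1, 3, 1, 3, 3, 7, 6, 0, 6, 2, 7, 4, 0, 7, 4, 7, 5, 3, 5, 7, 2, 1, 7, 5, 0, 2, 1, 0, 5, 2, 6, 7, 4, 1, 3],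
  [0, 1, 2, 3, 1, 4, 4, 3, 0, 5, 1, 0, 6, 6, 1, 5, 4, 6, 6, 7, 2, 2, 4, 0, 4, 6, 5, 3, 0, 2, 5, 2, 3, 3, 3, 6, 7, 6, 0, 7, 1, 0, 4, 4, 7, 5, 7, 5, 3, 1, 7, 7, 2, 0, 5, 2, 1, 5, 0, 6, 1, 4, 7, 3, 2],
  [0, 1, 2, 3, 1, 0, 2, 4, 4, 5, 0, 1, 6, 4, 6, 1, 5, 3, 7, 5, 5, 4, 0, 4, 3, 0, 2, 6, 5, 2, 3, 6, 3, 7, 5, 2, 2, 1, 7, 0, 5, 7, 4, 4, 0, 2, 6, 7, 6, 3, 7, 7, 1, 1, 3, 6, 0, 1, 5, 0, 6, 3, 2, 7, 4],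
  [0, 1, 2, 2, 3, 1, 0, 4, 4, 0, 5, 6, 2, 6, 4, 5, 2, 7, 3, 5, 5, 0, 4, 3, 4, 1, 0, 5, 6, 3, 1, 3, 6, 5, 7, 1, 1, 7, 2, 5, 0, 4, 7, 0, 4, 6, 1, 6, 7, 7, 3, 2, 7, 3, 2, 0, 6, 5, 2, 6, 0, 1, 3, 4, 7],
  [0, 1, 1, 0, 2, 3, 4, 4, 2, 4, 5, 1, 6, 4, 6, 5, 0, 1, 3, 1, 0, 5, 5, 3, 7, 6, 3, 2, 3, 6, 5, 0, 2, 0, 5, 4, 7, 2, 2, 7, 5, 7, 6, 2, 6, 1, 0, 7, 1, 6, 0, 4, 3, 7, 4, 3, 7, 7, 1, 3, 2, 0, 6, 4, 5],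
  [0, 1, 1, 2, 0, 3, 4, 2, 3, 5, 3, 6, 1, 6, 3, 0, 5, 4, 1, 0, 1, 5, 5, 7, 4, 4, 6, 4, 2, 5, 6, 2, 0, 5, 0, 7, 3, 2, 2, 5, 7, 6, 7, 6, 2, 0, 1, 1, 7, 0, 6, 4, 3, 3, 7, 7, 4, 1, 7, 2, 4, 6, 0, 5, 3],
  [0, 0, 1, 2, 2, 3, 1, 4, 3, 2, 5, 3, 6, 6, 0, 3, 5, 2, 0, 2, 4, 4, 7, 6, 6, 1, 4, 5, 4, 0, 1, 5, 6, 3, 7, 0, 6, 7, 6, 1, 1, 1, 5, 7, 5, 7, 2, 2, 0, 3, 4, 5, 0, 4, 7, 7, 3, 4, 1, 7, 2, 3, 6, 0, 5],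
  [0, 1, 0, 2, 2, 1, 3, 3, 4, 5, 2, 6, 3, 0, 6, 5, 3, 0, 2, 4, 2, 7, 4, 6, 6, 4, 1, 4, 5, 1, 0, 6, 5, 7, 3, 6, 0, 6, 7, 1, 1, 5, 1, 5, 7, 2, 7, 0, 2, 4, 3, 0, 5, 7, 4, 3, 7, 1, 4, 2, 7, 6, 3, 5, 0]]

end H57.SzEight
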