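import Mathlib
import Cfsg.Agent.H57.SzEight.Data

/-!
Kernel checks on the tables.
-/

set_option autoImplicit false
set_option maxRecDepth 100000

namespace H57.SzEight

/-- Entry of a list matrix. -/
def ent (A : List (List ℕ)) (i j : ℕ) : ℕ := (A.getD i []).getD j 0

/-- Matrix times vector modulo 5. -/
def mvL (A : List (List ℕ)) (v : List ℕ) : List ℕ :=
  (List.range 8).map fun i =>
    (ent A i 0 * v.getD 0 0 + ent A i 1 * v.getD 1 0 + ent A i 2 * v.getD 2 0 +
      ent A i 3 * v.getD 3 0 + ent A i 4 * v.getD 4 0 + ent A i 5 * v.getD 5 0 +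
      ent A i 6 * v.getD 6 0 + ent A i 7 * v.getD 7 0) % 5

/-- Matrix product modulo 5. -/
def mulL (A B : List (List ℕ)) : List (List ℕ) :=
  (List.range 8).map fun i => (List.range 8).map fun j =>
    (ent A i 0 * ent B 0 j + ent A i 1 * ent B 1 j + ent A i 2 * ent B 2 j +
      ent A i 3 * ent B 3 j + ent A i 4 * ent B 4 j + ent A i 5 * ent B 5 j +
      ent A i 6 * ent B 6 j + ent A i 7 * ent B 7 j) % 5

/-- Transpose. -/
def trL (A : List (List ℕ)) : List (List ℕ) :=
  (List.range 8).map fun i => (List.range 8).map fun j => ent A j i

/-- The scalar matrix. -/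
def scL (c : ℕ) : List (List ℕ) :=
  (List.range 8).map fun i => (List.range 8).map fun j => if i = j then c else 0

/-- The line with frame `p` and slot `s`. -/
def line (p s : ℕ) : List ℕ := (lines.getD p []).getD s []

/-- The slot of the pair `(p, x)`. -/
def slot (p x : ℕ) : ℕ := (slots.getD p []).getD x 0

/-- A matrix moves the lines as its tables say. -/
def chkLines (A : List (List ℕ)) (π : List ℕ) (Q : List (List ℕ)) : Bool :=
  (List.range 65).all fun p => (List.range 8).all fun s =>
    let u := mvL A (line p s)
    let w := line (π.getD p 0) ((Q.getD p []).getD s 0)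
    [1, 2, 3, 4].any fun c => (List.range 8).all fun i => u.getD i 0 == (c * w.getD i 0) % 5

/-- The tables are equivariant on pairs of points. -/
def chkPairs (π : List ℕ) (Q : List (List ℕ)) : Bool :=
  (List.range 65).all fun p => (List.range 65).all fun x =>
    p == x || ((Q.getD p []).getD (slot p x) 0 == slot (π.getD p 0) (π.getD x 0) &&
      decide (slot p x < 8))

theorem chkLines_S : chkLines lS pS qS = true := by decide +kernel
theorem chkLines_D : chkLines lD pD qD = true := by decide +kernel
theorem chkLines_W : chkLines lW pW qW = true := by decide +kernel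
theorem chkPairs_S : chkPairs pS qS = true := by decide +kernel
theorem chkPairs_D : chkPairs pD qD = true := by decide +kernel
theorem chkPairs_W : chkPairs pW qW = true := by decide +kernel

theorem orth_S : mulL lS (trL lS) = scL 1 ∧ mulL (trL lS) lS = scL 1 := by decide +kernel
theorem orth_D : mulL lD (trL lD) = scL 1 ∧ mulL (trL lD) lD = scL 1 := by decide +kernel
theorem orth_W : mulL lW (trL lW) = scL 1 ∧ mulL (trL lW) lW = scL 1 := by decide +kernel

theorem frame_zero : ∀ s ∈ List.range 8,
    line 0 s = (List.range 8).map (fun i => if i = s then 1 else 0) ∧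
      (List.range 65).any (fun x => x != 0 && slot 0 x == s) = true := by decide +kernel

theorem line_one : (∀ i ∈ List.range 8, (line 1 0).getD i 0 % 5 ≠ 0) ∧
    (List.range 65).any (fun x => x != 1 && slot 1 x == 0) = true := by decide +kernel

end H57.SzEight
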