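import Mathlib
import Cfsg.Agent.H57.SzField
import Cfsg.Agent.H57.SzEight.Check

/-!
Coordinates on a field with eight elements.
-/

set_option autoImplicit false
set_option maxRecDepth 10000
set_option linter.style.haveILetI false

namespace H57.SzEight

/-- Bit `k` of `i`. -/
def bit (i : Fin 8) (k : ℕ) : ℕ := (i : ℕ) / 2 ^ k % 2

/-- Addition of coordinates. -/
def ad (i j : Fin 8) : Fin 8 :=
  ⟨((bit i 0 + bit j 0) % 2 + 2 * ((bit i 1 + bit j 1) % 2) + 4 * ((bit i 2 + bit j 2) % 2)) % 8,
    Nat.mod_lt _ (by norm_num)⟩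

/-- Multiplication by the generator. -/
def mX (i : Fin 8) : Fin 8 :=
  ⟨(bit i 2 + 2 * ((bit i 0 + bit i 2) % 2) + 4 * bit i 1) % 8, Nat.mod_lt _ (by norm_num)⟩

/-- Multiplication of coordinates. -/
def ml (i j : Fin 8) : Fin 8 :=
  ad (if bit i 0 = 1 then j else 0)
    (ad (if bit i 1 = 1 then mX j else 0) (if bit i 2 = 1 then mX (mX j) else 0))

/-- The fourth power. -/
def q4 (i : Fin 8) : Fin 8 := ml (ml i i) (ml i i)

/-- The inverse. -/
def iv (i : Fin 8) : Fin 8 := ml (ml i i) (q4 i)

theorem iv_ml : ∀ i : Fin 8, i ≠ 0 → ml (iv i) i = 1 := by decide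

theorem ad_ne_zero : ∀ i j : Fin 8, i ≠ j → ad i j ≠ 0 := by decide

variable {F : Type*} [Field F]

/-- The element with coordinates `i` with respect to `1, a, a²`. -/
def el (a : F) (i : Fin 8) : F := (bit i 0 : F) + (bit i 1 : F) * a + (bit i 2 : F) * a ^ 2

theorem el_zero (a : F) : el a 0 = 0 := by simp [el, bit]

theorem el_one (a : F) : el a 1 = 1 := by simp [el, bit]

theorem el_two (a : F) : el a 2 = a := by simp [el, bit]

variable {a : F} (h2 : (2 : F) = 0) (ha : a ^ 3 = a + 1)

include h2 in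
theorem el_ad (i j : Fin 8) : el a (ad i j) = el a i + el a j := by
  haveI : CharP F 2 := CharTwo.of_one_ne_zero_of_two_eq_zero one_ne_zero h2
  have hb : ∀ x y : ℕ, (((x + y) % 2 : ℕ) : F) = (x : F) + y := fun x y => by
    rw [← Nat.cast_add, ← CharP.cast_eq_mod F 2]
  have hbit : ∀ k, k < 3 → bit (ad i j) k = (bit i k + bit j k) % 2 := by
    intro k hk
    revert i j k
    decide
  rw [el, el, el, hbit 0 (by norm_num), hbit 1 (by norm_num), hbit 2 (by norm_num), hb, hb, hb]
  ring

include h2 ha in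
theorem el_mX (i : Fin 8) : el a (mX i) = a * el a i := by
  fin_cases i <;> simp [el, bit, mX] <;>
    first
      | ring1
      | linear_combination -ha
      | linear_combination ha
      | linear_combination -ha + h2
      | linear_combination -ha + a * h2
      | linear_combination -ha - a * h2

include h2 ha in
theorem el_ml (i j : Fin 8) : el a (ml i j) = el a i * el a j := by
  have h01 : ∀ k, k < 3 → bit i k = 0 ∨ bit i k = 1 := fun k _ => Nat.mod_two_eq_zero_or_one _
  have hsel : ∀ (k : ℕ) (u : Fin 8), el a (if bit i k = 1 then u else 0) = (bit i k : F) * el a u := by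
    intro k u
    rcases (show bit i k = 0 ∨ bit i k = 1 from Nat.mod_two_eq_zero_or_one _) with h | h <;>
      simp [h, el_zero]
  rw [ml, el_ad h2, el_ad h2, hsel, hsel, hsel, el_mX h2 ha, el_mX h2 ha, el_mX h2 ha]
  simp only [el]
  ring

include h2 ha in
theorem el_inv (i : Fin 8) (hi : i ≠ 0) : el a (iv i) = (el a i)⁻¹ := by
  have h : ml (iv i) i = 1 := iv_ml i hi
  have := el_ml h2 ha (iv i) i
  rw [h, el_one] at this
  exact eq_inv_of_mul_eq_one_left this.symm

include h2 ha in
theorem el_ne_zero {i : Fin 8} (hi : i ≠ 0) : el a i ≠ 0 := by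
  intro h
  have h' : ml (iv i) i = 1 := iv_ml i hi
  have := el_ml h2 ha (iv i) i
  rw [h', el_one, h, mul_zero] at this
  exact one_ne_zero this

include h2 ha in
theorem el_injective : Function.Injective (el a) := by
  intro i j h
  by_contra hne
  have hij : ad i j ≠ 0 := ad_ne_zero i j hne
  refine el_ne_zero h2 ha hij ?_
  rw [el_ad h2, h]
  linear_combination el a j * h2

include h2 ha in
theorem el_q4 (i : Fin 8) : el a (q4 i) = el a i ^ 4 := by
  rw [q4, el_ml h2 ha, el_ml h2 ha]; ring

include h2 ha in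
theorem el_bijective [Fintype F] (hF : Fintype.card F = 8) : Function.Bijective (el a) :=
  (Fintype.bijective_iff_injective_and_card _).2 ⟨el_injective h2 ha, by rw [hF]; rfl⟩

omit a h2 ha in
/-- A root of `X³ + X + 1` in the field with eight elements. -/
theorem exists_root [Fintype F] (hF : Fintype.card F = 8) : ∃ a : F, a ^ 3 = a + 1 := by
  have h2 : (2 : F) = 0 := H57.two_eq_zero (m := 1) hF
  obtain ⟨x, hx0, hx1⟩ : ∃ x : F, x ≠ 0 ∧ x ≠ 1 := by
    classical
    obtain ⟨x, -, hx⟩ := Finset.exists_mem_notMem_of_card_lt_card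
      (s := ({0, 1} : Finset F)) (t := Finset.univ) (by
        rw [Finset.card_univ, hF]
        exact lt_of_le_of_lt Finset.card_le_two (by norm_num))
    simp only [Finset.mem_insert, Finset.mem_singleton, not_or] at hx
    exact ⟨x, hx⟩
  have h7 : x ^ 7 = 1 := by
    have := FiniteField.pow_card_sub_one_eq_one x hx0
    rwa [hF] at this
  have h : (x - 1) * ((x ^ 3 + x + 1) * (x ^ 3 + x ^ 2 + 1)) = 0 := by
    linear_combination h7 + (x - 1) * x ^ 3 * h2
  rcases mul_eq_zero.1 ((mul_eq_zero.1 h).resolve_left (sub_ne_zero.2 hx1)) with h' | h'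
  · exact ⟨x, by linear_combination h' + (-x - 1) * h2⟩
  · refine ⟨x⁻¹, ?_⟩
    field_simp
    linear_combination -h' + h2

end H57.SzEight
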