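import Mathlib
import Cfsg.Agent.H57.SzGroup
import Cfsg.Agent.H57.SzEight.Field

/-!
The 65 points of the ovoid by number, and the action of three generators on them.
-/

set_option autoImplicit false
set_option maxRecDepth 10000
set_option linter.style.haveILetI false
set_option linter.unusedSectionVars false

namespace H57.SzEight

/-- First coordinate of an affine point. -/
def xi (p : Fin 65) : Fin 8 := ⟨((p : ℕ) - 1) / 8 % 8, Nat.mod_lt _ (by norm_num)⟩

/-- Second coordinate of an affine point. -/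
def yi (p : Fin 65) : Fin 8 := ⟨((p : ℕ) - 1) % 8, Nat.mod_lt _ (by norm_num)⟩

/-- The ovoid function in coordinates. -/
def oi (x y : Fin 8) : Fin 8 := ad (ad (ml x y) (ml (q4 x) (ml x x))) (q4 y)

/-- Numbering. -/
def num (x y : Fin 8) : ℕ := 1 + 8 * (x : ℕ) + (y : ℕ)

theorem num_xi_yi : ∀ p : Fin 65, p ≠ 0 → num (xi p) (yi p) = (p : ℕ) := by decide +kernel

theorem tab_S : ∀ p : Fin 65, p ≠ 0 →
    pS.getD p 0 = num (ad (xi p) 1) (ad (yi p) (xi p)) := by decide +kernel

theorem tab_D : ∀ p : Fin 65, p ≠ 0 →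
    pD.getD p 0 = num (ml 2 (xi p)) (ml (ml (q4 2) 2) (yi p)) := by decide +kernel

theorem tab_W : ∀ p : Fin 65, p ≠ 0 → p ≠ 1 → oi (xi p) (yi p) ≠ 0 ∧
    pW.getD p 0 = num (ml (yi p) (iv (oi (xi p) (yi p)))) (ml (xi p) (iv (oi (xi p) (yi p)))) := by
  decide +kernel

variable {F : Type*} [Field F] [Fintype F]

/-- The point with number `p`. -/
noncomputable def pt (a : F) (p : Fin 65) : Projectivization F (Fin 4 → F) :=
  if p = 0 then Cfsg.suzukiPointInfinity F else ovPt 1 (el a (xi p)) (el a (yi p))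

theorem pt_of_num (a : F) {q : Fin 65} {x y : Fin 8} (h : (q : ℕ) = num x y) :
    pt a q = ovPt 1 (el a x) (el a y) := by
  have hq : q ≠ 0 := fun h0 => by rw [h0] at h; simp [num] at h; omega
  have h1 : xi q = x := Fin.ext (by
    have := y.2; have := x.2
    simp only [xi, h, num]; omega)
  have h2 : yi q = y := Fin.ext (by
    have := y.2; have := x.2
    simp only [yi, h, num]; omega)
  rw [pt, if_neg hq, h1, h2]

variable {a : F} (hF : Fintype.card F = 8) (ha : a ^ 3 = a + 1)

include hF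

theorem hF' : Fintype.card F = 2 ^ (2 * 1 + 1) := hF

theorem two' : (2 : F) = 0 := H57.two_eq_zero (m := 1) (hF' hF)

include ha

theorem pt_injective : Function.Injective (pt a) := by
  intro p q h
  by_cases hp : p = 0 <;> by_cases hq : q = 0
  · rw [hp, hq]
  · exfalso
    rw [pt, pt, if_pos hp, if_neg hq] at h
    exact ovPt_ne_infty _ _ h.symm
  · exfalso
    rw [pt, pt, if_neg hp, if_pos hq] at h
    exact ovPt_ne_infty _ _ h
  · rw [pt, pt, if_neg hp, if_neg hq] at h
    obtain ⟨hx, hy⟩ := ovPt_inj h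
    apply Fin.ext
    rw [← num_xi_yi p hp, ← num_xi_yi q hq, el_injective (two' hF) ha hx,
      el_injective (two' hF) ha hy]

theorem smul_pt_S {p q : Fin 65} (hq : (q : ℕ) = pS.getD p 0) :
    tEl (m := 1) (hF' hF) (1 : F) 0 • pt a p = pt a q := by
  by_cases hp : p = 0
  · subst hp
    obtain rfl : q = 0 := Fin.ext hq
    rw [pt, if_pos rfl, tEl_infty]
  · rw [tab_S p hp] at hq
    rw [pt_of_num a hq, pt, if_neg hp, tEl_ovPt, el_ad (two' hF), el_ad (two' hF), el_one,
      th_one, one_mul, add_zero]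

theorem th_el (i : Fin 8) : th 1 (el a i) = el a (q4 i) := by
  rw [el_q4 (two' hF) ha, th_def]; norm_num

theorem smul_pt_D {p q : Fin 65} (hq : (q : ℕ) = pD.getD p 0) (k : Fˣ) (hk : (k : F) = a) :
    dEl (m := 1) (hF' hF) k • pt a p = pt a q := by
  by_cases hp : p = 0
  · subst hp
    obtain rfl : q = 0 := Fin.ext hq
    rw [pt, if_pos rfl, dEl_infty]
  · rw [tab_D p hp] at hq
    rw [pt_of_num a hq, pt, if_neg hp, dEl_ovPt, el_ml (two' hF) ha, el_ml (two' hF) ha,
      el_ml (two' hF) ha, ← th_el hF ha, el_two, hk]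

theorem smul_pt_W {p q : Fin 65} (hq : (q : ℕ) = pW.getD p 0) :
    wEl (m := 1) (hF' hF) • pt a p = pt a q := by
  by_cases hp : p = 0
  · subst hp
    have h1 : (q : ℕ) = num 0 0 := hq
    rw [pt_of_num a h1, el_zero, pt, if_pos rfl, wEl_infty]
  · by_cases hp1 : p = 1
    · subst hp1
      obtain rfl : q = 0 := Fin.ext hq
      rw [pt_of_num a (show ((1 : Fin 65) : ℕ) = num 0 0 from rfl), el_zero, pt, if_pos rfl,
        wEl_ovPt_zero]
    · obtain ⟨hz, ht⟩ := tab_W p hp hp1
      rw [ht] at hq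
      have hoe : el a (oi (xi p) (yi p)) = oF 1 (el a (xi p)) (el a (yi p)) := by
        rw [oi, oF, el_ad (two' hF), el_ad (two' hF), th_el hF ha, th_el hF ha, sq,
          el_ml (two' hF) ha, el_ml (two' hF) ha, el_ml (two' hF) ha]
      have hz' : oF 1 (el a (xi p)) (el a (yi p)) ≠ 0 := hoe ▸ el_ne_zero (two' hF) ha hz
      rw [pt_of_num a hq, pt, if_neg hp]
      show wSL (hF' hF) • ovPt 1 (el a (xi p)) (el a (yi p)) = _
      rw [wSL_ovPt _ hz', el_ml (two' hF) ha, el_ml (two' hF) ha, el_inv (two' hF) ha _ hz, hoe,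
        div_eq_mul_inv, div_eq_mul_inv]

end H57.SzEight
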