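import Mathlib
import Cfsg.Agent.H57.SzSimple
import Cfsg.Agent.H57.SzEight.Points

/-!
The double cover of the Suzuki group of order 29120 inside `GL₈` over the integers modulo 5.
-/

set_option autoImplicit false
set_option maxRecDepth 10000
set_option linter.style.haveILetI false
set_option linter.unusedSectionVars false

namespace H57.SzEight

open Matrix

/-- List matrix as a matrix. -/
def toM (A : List (List ℕ)) : Matrix (Fin 8) (Fin 8) (ZMod 5) := Matrix.of fun i j => (ent A i j : ZMod 5)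

/-- List as a vector. -/
def toV (v : List ℕ) : Fin 8 → ZMod 5 := fun i => (v.getD i 0 : ZMod 5)

theorem cast_mod5 (n : ℕ) : ((n % 5 : ℕ) : ZMod 5) = (n : ZMod 5) := ZMod.natCast_mod n 5

theorem ent_map (f : ℕ → ℕ → ℕ) (i j : Fin 8) :
    ent ((List.range 8).map fun r => (List.range 8).map fun c => f r c) i j = f i j := by
  simp [ent, List.getD_eq_getElem?_getD]

theorem toM_mul (A B : List (List ℕ)) : toM (mulL A B) = toM A * toM B := by
  ext i j
  rw [Matrix.mul_apply, Fin.sum_univ_eight]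
  show ((ent (mulL A B) i j : ℕ) : ZMod 5) = _
  rw [mulL, ent_map, cast_mod5]
  push_cast
  rfl

theorem toM_tr (A : List (List ℕ)) : toM (trL A) = (toM A)ᵀ := by
  ext i j
  show ((ent (trL A) i j : ℕ) : ZMod 5) = _
  rw [trL, ent_map]
  rfl

theorem toM_sc (c : ℕ) : toM (scL c) = (c : ZMod 5) • 1 := by
  ext i j
  show ((ent (scL c) i j : ℕ) : ZMod 5) = _
  rw [scL, ent_map]
  by_cases h : i = j <;> simp [h, Fin.val_inj]

theorem toV_mv (A : List (List ℕ)) (v : List ℕ) : toV (mvL A v) = toM A *ᵥ toV v := by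
  funext i
  rw [Matrix.mulVec, dotProduct, Fin.sum_univ_eight]
  show (((mvL A v).getD (i : ℕ) 0 : ℕ) : ZMod 5) = _
  rw [mvL, show (List.map (fun r : ℕ => (ent A r 0 * v.getD 0 0 + ent A r 1 * v.getD 1 0 +
      ent A r 2 * v.getD 2 0 + ent A r 3 * v.getD 3 0 + ent A r 4 * v.getD 4 0 +
      ent A r 5 * v.getD 5 0 + ent A r 6 * v.getD 6 0 + ent A r 7 * v.getD 7 0) % 5) (List.range 8)).getD
      (i : ℕ) 0 = (ent A i 0 * v.getD 0 0 + ent A i 1 * v.getD 1 0 + ent A i 2 * v.getD 2 0 +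
      ent A i 3 * v.getD 3 0 + ent A i 4 * v.getD 4 0 + ent A i 5 * v.getD 5 0 +
      ent A i 6 * v.getD 6 0 + ent A i 7 * v.getD 7 0) % 5 by simp [List.getD_eq_getElem?_getD],
    cast_mod5]
  push_cast
  rfl

/-- An orthogonal list matrix as an invertible matrix. -/
def mkG (A : List (List ℕ)) (h : mulL A (trL A) = scL 1 ∧ mulL (trL A) A = scL 1) :
    GL (Fin 8) (ZMod 5) :=
  ⟨toM A, toM (trL A), by rw [← toM_mul, h.1, toM_sc, Nat.cast_one, one_smul],
    by rw [← toM_mul, h.2, toM_sc, Nat.cast_one, one_smul]⟩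

/-- The three generators. -/
def gS : GL (Fin 8) (ZMod 5) := mkG lS orth_S

/-- The three generators. -/
def gD : GL (Fin 8) (ZMod 5) := mkG lD orth_D

/-- The three generators. -/
def gW : GL (Fin 8) (ZMod 5) := mkG lW orth_W

/-- The vector of the line of a pair of points. -/
def vec (p x : Fin 65) : Fin 8 → ZMod 5 := toV (line p (slot p x))

variable {F : Type*} [Field F] [Fintype F] (hF : Fintype.card F = 8) {a : F} (ha : a ^ 3 = a + 1)

/-- Orthogonal and equivariant pairs. -/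
def Good (a : F) (z : GL (Fin 8) (ZMod 5) × Cfsg.Sz F 1) : Prop :=
  ((z.1 : Matrix (Fin 8) (Fin 8) (ZMod 5))ᵀ * (z.1 : Matrix (Fin 8) (Fin 8) (ZMod 5)) = 1) ∧
    ∀ p x : Fin 65, p ≠ x → ∃ p' x' : Fin 65, ∃ c : ZMod 5, c ≠ 0 ∧ z.2 • pt a p = pt a p' ∧
      z.2 • pt a x = pt a x' ∧ (z.1 : Matrix (Fin 8) (Fin 8) (ZMod 5)) *ᵥ vec p x = c • vec p' x'

theorem good_one (a : F) : Good a 1 :=
  ⟨by simp, fun p x _ => ⟨p, x, 1, by decide, one_smul _ _, one_smul _ _, by simp⟩⟩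

include hF ha in
theorem good_mul {y z : GL (Fin 8) (ZMod 5) × Cfsg.Sz F 1} (hy : Good a y) (hz : Good a z) :
    Good a (y * z) := by
  haveI : Fact (Nat.Prime 5) := ⟨by norm_num⟩
  refine ⟨?_, fun p x hpx => ?_⟩
  · rw [Prod.fst_mul, Units.val_mul, Matrix.transpose_mul, mul_assoc,
      ← mul_assoc ((y.1 : Matrix (Fin 8) (Fin 8) (ZMod 5))ᵀ), hy.1, one_mul, hz.1]
  obtain ⟨p', x', c, hc, hp, hx, hv⟩ := hz.2 p x hpx
  have hne : p' ≠ x' := fun h => hpx (by
    subst h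
    exact pt_injective hF ha (smul_left_cancel z.2 (hp.trans hx.symm)))
  obtain ⟨p'', x'', d, hd, hp', hx', hv'⟩ := hy.2 p' x' hne
  refine ⟨p'', x'', c * d, mul_ne_zero hc hd, ?_, ?_, ?_⟩
  · rw [Prod.snd_mul, mul_smul, hp, hp']
  · rw [Prod.snd_mul, mul_smul, hx, hx']
  · rw [Prod.fst_mul, Units.val_mul, ← Matrix.mulVec_mulVec, hv, Matrix.mulVec_smul, hv', smul_smul]

theorem good_gen (A : List (List ℕ)) (h : mulL A (trL A) = scL 1 ∧ mulL (trL A) A = scL 1)
    (π : List ℕ) (Q : List (List ℕ)) (hl : chkLines A π Q = true) (hp : chkPairs π Q = true)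
    (a : F) (g : Cfsg.Sz F 1) (hπ : ∀ p : Fin 65, π.getD p 0 < 65)
    (hg : ∀ {p q : Fin 65}, (q : ℕ) = π.getD p 0 → g • pt a p = pt a q) :
    Good a (mkG A h, g) := by
  refine ⟨?_, fun p x hpx => ?_⟩
  · show (toM A)ᵀ * toM A = 1
    rw [← toM_tr, ← toM_mul, h.2, toM_sc, Nat.cast_one, one_smul]
  refine ⟨⟨_, hπ p⟩, ⟨_, hπ x⟩, ?_⟩
  have h1 := (List.all_eq_true.1 ((List.all_eq_true.1 hp) p (List.mem_range.2 p.2))) x
    (List.mem_range.2 x.2)
  simp only [Bool.or_eq_true, beq_iff_eq, Bool.and_eq_true, decide_eq_true_eq] at h1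
  obtain ⟨hq, hs⟩ := h1.resolve_left fun h => hpx (Fin.ext h)
  have h2 := (List.all_eq_true.1 ((List.all_eq_true.1 hl) p (List.mem_range.2 p.2))) _
    (List.mem_range.2 hs)
  simp only [List.any_eq_true, List.all_eq_true, beq_iff_eq, List.mem_range] at h2
  obtain ⟨c, hc, hcv⟩ := h2
  refine ⟨(c : ZMod 5), ?_, hg rfl, hg rfl, ?_⟩
  · intro h0
    simp only [List.mem_cons, List.not_mem_nil, or_false] at hc
    rcases hc with rfl | rfl | rfl | rfl <;> revert h0 <;> decide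
  · show toM A *ᵥ vec p x = _
    funext i
    rw [vec, ← toV_mv]
    show (((mvL A (line p (slot p x))).getD (i : ℕ) 0 : ℕ) : ZMod 5) =
      (c : ZMod 5) * (((line (π.getD p 0) (slot (π.getD p 0) (π.getD x 0))).getD (i : ℕ) 0 : ℕ) : ZMod 5)
    rw [hcv i i.2, cast_mod5, Nat.cast_mul, hq]

include hF ha

omit hF in
/-- The torus generator. -/
noncomputable def kA : Fˣ :=
  Units.mk0 a (fun h => by subst h; simp at ha)

/-- The generating pairs. -/
noncomputable def gens : Set (GL (Fin 8) (ZMod 5) × Cfsg.Sz F 1) :=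
  {(gS, tEl (m := 1) (hF' hF) (1 : F) 0), (gD, dEl (m := 1) (hF' hF) (kA ha)),
    (gW, wEl (m := 1) (hF' hF))}

/-- The cover. -/
noncomputable def R : Subgroup (GL (Fin 8) (ZMod 5) × Cfsg.Sz F 1) := Subgroup.closure (gens hF ha)

omit hF ha in
theorem tab_lt : ∀ p : Fin 65, pS.getD p 0 < 65 ∧ pD.getD p 0 < 65 ∧ pW.getD p 0 < 65 := by
  decide +kernel

theorem good_of_mem {z : GL (Fin 8) (ZMod 5) × Cfsg.Sz F 1} (hz : z ∈ R hF ha) : Good a z := by
  haveI : Fact (Nat.Prime 5) := ⟨by norm_num⟩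
  have hz' : z ∈ (Subgroup.closure (gens hF ha)).toSubmonoid := hz
  rw [Subgroup.closure_toSubmonoid_of_finite] at hz'
  clear hz
  induction hz' using Submonoid.closure_induction with
  | mem x hx =>
    simp only [gens, Set.mem_insert_iff, Set.mem_singleton_iff] at hx
    rcases hx with rfl | rfl | rfl
    · exact good_gen lS orth_S pS qS chkLines_S chkPairs_S a _ (fun p => (tab_lt p).1)
        (fun h => smul_pt_S hF ha h)
    · exact good_gen lD orth_D pD qD chkLines_D chkPairs_D a _ (fun p => (tab_lt p).2.1)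
        (fun h => smul_pt_D hF ha h _ rfl)
    · exact good_gen lW orth_W pW qW chkLines_W chkPairs_W a _ (fun p => (tab_lt p).2.2)
        (fun h => smul_pt_W hF ha h)
  | one => exact good_one a
  | mul x y _ _ hx hy => exact good_mul hF ha hx hy

/-- The projection to the Suzuki group. -/
noncomputable def prj : R hF ha →* Cfsg.Sz F 1 := (MonoidHom.snd _ _).comp (R hF ha).subtype

theorem gen_mem : (gS, tEl (m := 1) (hF' hF) (1 : F) 0) ∈ R hF ha ∧
    (gD, dEl (m := 1) (hF' hF) (kA ha)) ∈ R hF ha ∧ (gW, wEl (m := 1) (hF' hF)) ∈ R hF ha :=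
  ⟨Subgroup.subset_closure (by simp [gens]), Subgroup.subset_closure (by simp [gens]),
    Subgroup.subset_closure (by simp [gens])⟩

theorem prj_surjective : Function.Surjective (prj hF ha) := by
  rw [← MonoidHom.range_eq_top]
  set H := (prj hF ha).range
  obtain ⟨hS, hD, hW⟩ := gen_mem hF ha
  have hS' : tEl (m := 1) (hF' hF) (1 : F) 0 ∈ H := ⟨⟨_, hS⟩, rfl⟩
  have hD' : dEl (m := 1) (hF' hF) (kA ha) ∈ H := ⟨⟨_, hD⟩, rfl⟩
  have hW' : wEl (m := 1) (hF' hF) ∈ H := ⟨⟨_, hW⟩, rfl⟩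
  have two : (2 : F) = 0 := two' hF
  have hd : ∀ k : Fˣ, dEl (m := 1) (hF' hF) k ∈ H := by
    intro k
    haveI : Fact (Nat.Prime 7) := ⟨by norm_num⟩
    have hc : Nat.card Fˣ = 7 := by
      classical
      rw [Nat.card_eq_fintype_card, Fintype.card_units, hF]
    have hne : kA ha ≠ 1 := by
      intro h
      have h1 : a = 1 := congrArg Units.val h
      rw [h1] at ha
      exact one_ne_zero (by linear_combination -ha : (1 : F) = 0)
    obtain ⟨i, hi⟩ := Subgroup.mem_zpowers_iff.1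
      ((zpowers_eq_top_of_prime_card hc hne).symm ▸ Subgroup.mem_top k)
    rw [← hi, ← dHom_apply, map_zpow, dHom_apply]
    exact H.zpow_mem hD' i
  have ha0 : ∀ b : F, tEl (m := 1) (hF' hF) b 0 ∈ H := by
    intro b
    by_cases hb : b = 0
    · rw [hb, tEl_zero]; exact H.one_mem
    · have h := H.mul_mem (H.mul_mem (hd (Units.mk0 b hb)) hS') (H.inv_mem (hd (Units.mk0 b hb)))
      rwa [dEl_tEl, mul_inv_cancel_right, mul_one, mul_zero] at h
  have ht : ∀ b c : F, tEl (m := 1) (hF' hF) b c ∈ H := by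
    intro b c
    obtain ⟨e, he⟩ := (th_mul_self_bij (m := 1) (hF' hF)).2 c
    have h := H.mul_mem (ha0 b) (H.mul_mem (ha0 e) (ha0 e))
    have he2 : e + e = 0 := by linear_combination e * two
    rw [tEl_mul, tEl_mul, he2] at h
    simp only [add_zero, zero_add, mul_zero] at h
    rwa [show th 1 e * e = c from he] at h
  rw [eq_top_iff]
  intro g _
  rcases sz_cases le_rfl (hF' hF) g with ⟨b, c, k, rfl⟩ | ⟨b, c, b', c', k, rfl⟩
  · exact H.mul_mem (ht _ _) (hd _)
  · exact H.mul_mem (H.mul_mem (ht _ _) hW') (H.mul_mem (ht _ _) (hd _))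

omit hF ha in
theorem slot_surj (s : Fin 8) : ∃ x : Fin 65, x ≠ 0 ∧ slot 0 x = (s : ℕ) := by
  have h := (frame_zero s (List.mem_range.2 s.2)).2
  simp only [List.any_eq_true, List.mem_range, Bool.and_eq_true, bne_iff_ne, beq_iff_eq] at h
  obtain ⟨x, hx, hx0, hs⟩ := h
  exact ⟨⟨x, hx⟩, fun h0 => hx0 (congrArg Fin.val h0), hs⟩

omit hF ha in
theorem vec_zero {x : Fin 65} {s : Fin 8} (hs : slot 0 x = (s : ℕ)) : vec 0 x = Pi.single s 1 := by
  funext i
  rw [vec]
  show (((line ((0 : Fin 65) : ℕ) (slot ((0 : Fin 65) : ℕ) x)).getD (i : ℕ) 0 : ℕ) : ZMod 5) = _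
  rw [show ((0 : Fin 65) : ℕ) = 0 from rfl, hs, (frame_zero s (List.mem_range.2 s.2)).1]
  by_cases h : i = s
  · subst h; simp [List.getD_eq_getElem?_getD]
  · simp [List.getD_eq_getElem?_getD, h, Fin.val_ne_of_ne h]

/-- Elements over the identity are `±1`. -/
theorem eq_sign {γ : GL (Fin 8) (ZMod 5)} (h : (γ, (1 : Cfsg.Sz F 1)) ∈ R hF ha) :
    γ = 1 ∨ γ = -1 := by
  haveI : Fact (Nat.Prime 5) := ⟨by norm_num⟩
  obtain ⟨horth, hgood⟩ := good_of_mem hF ha h
  have hfix : ∀ p x : Fin 65, p ≠ x → ∃ c : ZMod 5,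
      (γ : Matrix (Fin 8) (Fin 8) (ZMod 5)) *ᵥ vec p x = c • vec p x := by
    intro p x hpx
    obtain ⟨p', x', c, -, hp, hx, hv⟩ := hgood p x hpx
    rw [one_smul] at hp hx
    obtain rfl := pt_injective hF ha hp
    obtain rfl := pt_injective hF ha hx
    exact ⟨c, hv⟩
  have hdiag : ∀ s : Fin 8, ∃ c : ZMod 5,
      (γ : Matrix (Fin 8) (Fin 8) (ZMod 5)) *ᵥ Pi.single s 1 = c • Pi.single s 1 := by
    intro s
    obtain ⟨x, hx0, hs⟩ := slot_surj s
    obtain ⟨c, hc⟩ := hfix 0 x (Ne.symm hx0)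
    rw [vec_zero hs] at hc
    exact ⟨c, hc⟩
  choose d hd using hdiag
  have hγ : (γ : Matrix (Fin 8) (Fin 8) (ZMod 5)) = Matrix.diagonal d := by
    ext i j
    have := congrFun (hd j) i
    rw [Matrix.mulVec_single_one] at this
    simp only [Matrix.col_apply, Pi.smul_apply, Pi.single_apply, smul_eq_mul] at this
    rw [this, Matrix.diagonal_apply]
    by_cases hij : i = j
    · subst hij; simp
    · simp [hij]
  obtain ⟨hnz, hany⟩ := line_one
  simp only [List.any_eq_true, List.mem_range, Bool.and_eq_true, bne_iff_ne, beq_iff_eq] at hany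
  obtain ⟨x, hx, hx1, hs⟩ := hany
  obtain ⟨c, hc⟩ := hfix 1 ⟨x, hx⟩ (fun h => hx1 (congrArg Fin.val h).symm)
  have hdc : ∀ i, d i = c := by
    intro i
    have h1 := congrFun hc i
    rw [hγ, Matrix.mulVec_diagonal, Pi.smul_apply, smul_eq_mul] at h1
    refine mul_right_cancel₀ ?_ h1
    show ((line ((1 : Fin 65) : ℕ) (slot ((1 : Fin 65) : ℕ) x)).getD (i : ℕ) 0 : ZMod 5) ≠ 0
    rw [show ((1 : Fin 65) : ℕ) = 1 from rfl, hs, Ne, ZMod.natCast_eq_zero_iff]
    exact fun hd5 => hnz i (List.mem_range.2 i.2) (Nat.mod_eq_zero_of_dvd hd5)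
  have hsq : c * c = 1 := by
    have h1 := congrFun (congrFun horth 0) 0
    rw [hγ, Matrix.diagonal_transpose, Matrix.diagonal_mul_diagonal] at h1
    simpa [hdc] using h1
  rcases mul_self_eq_one_iff.1 hsq with hc1 | hc1
  · left
    refine Units.ext ?_
    rw [hγ, funext hdc, hc1, Units.val_one, ← Matrix.diagonal_one]
  · right
    refine Units.ext ?_
    rw [hγ, funext hdc, hc1, Units.val_neg, Units.val_one, ← Matrix.diagonal_one, Matrix.diagonal_neg]

omit hF ha in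
theorem vec_moved : ∃ p x : Fin 65, p ≠ x ∧
    (∀ c : ZMod 5, vec p x ≠ c • vec ⟨pD.getD p 0, (tab_lt p).2.1⟩ ⟨pD.getD x 0, (tab_lt x).2.1⟩) := by
  refine ⟨9, 0, by decide, ?_⟩
  decide +kernel

/-- The projection determines the Suzuki component. -/
theorem eq_one_of_fst {g : Cfsg.Sz F 1} (h : ((1 : GL (Fin 8) (ZMod 5)), g) ∈ R hF ha) : g = 1 := by
  let M : Subgroup (Cfsg.Sz F 1) := (R hF ha).comap (MonoidHom.inr _ _)
  haveI : M.Normal := ⟨fun x hx b => by
    obtain ⟨⟨y, hy⟩, rfl⟩ := prj_surjective hF ha b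
    have h2 := (R hF ha).mul_mem ((R hF ha).mul_mem hy hx) ((R hF ha).inv_mem hy)
    show ((1 : GL (Fin 8) (ZMod 5)), y.2 * x * y.2⁻¹) ∈ R hF ha
    convert h2 using 1
    ext <;> simp⟩
  haveI := sz_simple (F := F) le_rfl (hF' hF)
  rcases IsSimpleGroup.eq_bot_or_eq_top_of_normal M inferInstance with hb | ht
  · have : g ∈ M := h
    rwa [hb, Subgroup.mem_bot] at this
  · exfalso
    have hD : ((1 : GL (Fin 8) (ZMod 5)), dEl (m := 1) (hF' hF) (kA ha)) ∈ R hF ha :=
      (show dEl (m := 1) (hF' hF) (kA ha) ∈ M from ht ▸ Subgroup.mem_top _)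
    obtain ⟨p, x, hpx, hne⟩ := vec_moved
    obtain ⟨p', x', c, -, hp, hx, hv⟩ := (good_of_mem hF ha hD).2 p x hpx
    rw [smul_pt_D hF ha (p := p) (q := ⟨_, (tab_lt p).2.1⟩) rfl (kA ha) rfl] at hp
    rw [smul_pt_D hF ha (p := x) (q := ⟨_, (tab_lt x).2.1⟩) rfl (kA ha) rfl] at hx
    obtain rfl := pt_injective hF ha hp
    obtain rfl := pt_injective hF ha hx
    rw [Units.val_one, Matrix.one_mulVec] at hv
    exact hne c hv

end H57.SzEight
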