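import Mathlib
import Cfsg.Agent.H76.SzMultiplier
import Cfsg.Agent.H57.SzEight.Field

/-!
Stem extensions of the Suzuki group of order 29120 have kernels of rank at most two.  The first
lemma is the argument of `H76.SzMult.eq_one_of_mem` with the vanishing of the mixed commutators as
a hypothesis.
-/

set_option autoImplicit false
set_option linter.unusedSectionVars false
set_option linter.style.haveILetI false
set_option linter.unusedSimpArgs false

namespace H57.SzEight

open Subgroup H76.SzMult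
open scoped commutatorElement

variable {F Γ : Type*} [Field F] [Fintype F] [Group Γ] {m : ℕ}

open scoped IsMulCommutative in
/-- Above the Sylow 2-subgroup, the derived subgroup meets the central kernel trivially. -/
theorem eq_one_of_mem_of (hm : 1 ≤ m) (hF : Fintype.card F = 2 ^ (2 * m + 1))
    (π : Γ →* Cfsg.Sz F m) (hs : Function.Surjective π) (hc : π.ker ≤ center Γ)
    (hγ0 : ∀ (x y : Γ) (a b : F), π x = H57.tEl hF a 0 → π y = H57.tEl hF 0 b → ⁅x, y⁆ = 1) {z : Γ}
    (hzK : π z = 1)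
    (hz : z ∈ ⁅(H57.tSub hF).comap π, (H57.tSub hF).comap π⁆) : z = 1 := by
  classical
  have two := H57.two_eq_zero hF
  choose s hs' using fun a : F => hs (H57.tEl hF a 0)
  choose ζ hζ using fun b : F => hs (H57.tEl hF 0 b)
  choose d hd using fun k : Fˣ => hs (H57.dEl hF k)
  let w : F → F := fun k => H57.th m k * k
  have hconjt : ∀ (k : Fˣ) (a b : F) (x : Γ), π x = H57.tEl hF a b →
      π (d k * x * (d k)⁻¹) = H57.tEl hF (k * a) (w k * b) := by
    intro k a b x hx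
    rw [map_mul, map_mul, map_inv, hd, hx, H57.dEl_tEl, mul_inv_cancel_right]
  have tz : ∀ b b' : F, H57.tEl hF 0 b * H57.tEl hF 0 b' = H57.tEl hF 0 (b + b') := by
    intro b b'
    simp [H57.tEl_mul]
  have ts : ∀ a b : F, H57.tEl hF a 0 * H57.tEl hF 0 b = H57.tEl hF a b := by
    intro a b
    simp [H57.tEl_mul]
  have tcc : ∀ a b c : F, H57.tEl hF a b * H57.tEl hF 0 c = H57.tEl hF 0 c * H57.tEl hF a b := by
    intro a b c
    simp [H57.tEl_mul, add_comm]
  have hcen : ∀ {x y : Γ} (a b c : F), π x = H57.tEl hF a b → π y = H57.tEl hF 0 c →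
      ⁅x, y⁆ ∈ center Γ := fun a b c hx hy => hc (by
    rw [MonoidHom.mem_ker, map_commutatorElement, hx, hy, commutatorElement_eq_one_iff_mul_comm]
    exact tcc a b c)
  have hw : ∀ k : F, k ≠ 0 → w k ≠ 0 := fun k hk =>
    mul_ne_zero (fun h => hk (H57.th_eq_zero.1 h)) hk
  have hinvC : ∀ (k : Fˣ) (a b c : F) (x y x' y' : Γ), π x = H57.tEl hF a b → π y = H57.tEl hF 0 c →
      π x' = H57.tEl hF (k * a) (w k * b) → π y' = H57.tEl hF 0 (w k * c) → ⁅x', y'⁆ = ⁅x, y⁆ := by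
    intro k a b c x y x' y' hx hy hx' hy'
    rw [comm_congr π hc (hx'.trans (hconjt k a b x hx).symm)
      (hy'.trans (by rw [hconjt k 0 c y hy, mul_zero])), ← conjugate_commutatorElement,
      mem_center_iff.1 (hcen a b c hx hy) (d k), mul_inv_cancel_right]
  -- the preimage of the centre is abelian
  have hβ : ∀ b b', ⁅ζ b, ζ b'⁆ = 1 := by
    obtain ⟨x, hx0, hx1, hx⟩ := exists_not_additive_id hm hF
    obtain ⟨k₀, hk₀⟩ := (H57.th_mul_self_bij (m := m) hF).2 x
    refine vanish (fun b b' => ⁅ζ b, ζ b'⁆) id (fun k h => h) rfl ?_ ?_ two ?_ x hx0 hx1 hx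
    · intro a a' b
      show ⁅ζ (a + a'), ζ b⁆ = ⁅ζ a, ζ b⁆ * ⁅ζ a', ζ b⁆
      rw [comm_congr π hc (x := ζ (a + a')) (x' := ζ a' * ζ a) (y := ζ b) (y' := ζ b)
        (by rw [map_mul, hζ, hζ, hζ, tz, add_comm]) rfl,
        comm_mul_left (mem_center_iff.1 (hcen 0 _ _ (hζ a) (hζ b)) (ζ a'))]
    · intro a b b'
      show ⁅ζ a, ζ (b + b')⁆ = ⁅ζ a, ζ b⁆ * ⁅ζ a, ζ b'⁆
      rw [comm_congr π hc (x := ζ a) (x' := ζ a) (y := ζ (b + b')) (y' := ζ b * ζ b') rfl
        (by rw [map_mul, hζ, hζ, hζ, tz]),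
        comm_mul_right (mem_center_iff.1 (hcen 0 _ _ (hζ a) (hζ b')) (ζ b))]
    · intro k hk a b
      obtain ⟨l, hl⟩ := (H57.th_mul_self_bij (m := m) hF).2 k
      simp only at hl
      have hl0 : l ≠ 0 := fun h => hk (by rw [← hl, h, H57.th_zero, zero_mul])
      refine hinvC (Units.mk0 l hl0) 0 a b _ _ _ _ (hζ a) (hζ b) ?_ ?_
      · rw [hζ, mul_zero, Units.val_mk0]; simp only [w, hl]
      · rw [hζ, Units.val_mk0]; simp only [w, hl, id]
  -- and central in the preimage of the Sylow subgroup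
  have hγ : ∀ a b, ⁅s a, ζ b⁆ = 1 := fun a b => hγ0 _ _ a b (hs' a) (hζ b)
  have hdec : ∀ {g : Γ} (a b : F), π g = H57.tEl hF a b → π g = π (s a * ζ b) := fun a b h => by
    rw [h, map_mul, hs', hζ, ts]
  have hZc : ∀ {g e : Γ} (a b c : F), π g = H57.tEl hF a b → π e = H57.tEl hF 0 c → Commute g e := by
    intro g e a b c hg he
    refine commutatorElement_eq_one_iff_commute.1 ?_
    rw [comm_congr π hc (hdec a b hg) (he.trans (hζ c).symm),
      commutatorElement_mul_left_eq_conj_mul, hβ, hγ, mul_one, mul_one, mul_inv_cancel]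
  -- the abelian subgroup and its averaging map
  let A : Subgroup Γ :=
    { carrier := {g | ∃ b, π g = H57.tEl hF 0 b}
      one_mem' := ⟨0, by rw [map_one, H57.tEl_zero]⟩
      mul_mem' := by
        rintro g h ⟨b, hb⟩ ⟨b', hb'⟩
        exact ⟨b + b', by rw [map_mul, hb, hb', tz]⟩
      inv_mem' := by
        rintro g ⟨b, hb⟩
        refine ⟨b, ?_⟩
        rw [map_inv, hb, inv_eq_iff_mul_eq_one, tz, ← H57.tEl_zero hF]
        congr 1
        linear_combination b * two }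
  haveI : IsMulCommutative A := ⟨⟨fun g h => by
    obtain ⟨b, hb⟩ := g.2
    obtain ⟨b', hb'⟩ := h.2
    exact Subtype.ext (hZc 0 b b' hb hb')⟩⟩
  have hφm : ∀ (k : Fˣ) (g : A), d k * g * (d k)⁻¹ ∈ A := fun k g => by
    obtain ⟨b, hb⟩ := g.2
    exact ⟨w k * b, by rw [hconjt k 0 b g hb, mul_zero]⟩
  let φ : Fˣ → (A →* A) := fun k => MonoidHom.mk' (fun g => ⟨d k * g * (d k)⁻¹, hφm k g⟩)
    (fun g h => Subtype.ext (by simp [mul_assoc]))
  let Nf : A →* A := ∏ k : Fˣ, φ k
  have hNf : ∀ g : A, Nf g = ∏ k : Fˣ, φ k g := fun g => MonoidHom.finsetProd_apply _ _ _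
  have hπc : ∀ a a', ⁅s a, s a'⁆ ∈ A := fun a a' =>
    ⟨_, by rw [map_commutatorElement, hs', hs', H57.tSub_commutator_value]⟩
  let c : F → F → A := fun a a' => ⟨⁅s a, s a'⁆, hπc a a'⟩
  have hsA : ∀ a (e : A), Commute (s a) (e : Γ) := fun a e => by
    obtain ⟨b, hb⟩ := e.2
    exact hZc a 0 b (hs' a) hb
  have cl : ∀ a a' b, c (a + a') b = c a b * c a' b := by
    intro a a' b
    apply Subtype.ext
    show ⁅s (a + a'), s b⁆ = ⁅s a, s b⁆ * ⁅s a', s b⁆
    rw [comm_congr π hc (x := s (a + a')) (x' := s a' * s a * ζ (H57.th m a' * a)) (y := s b)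
      (y' := s b) (by
        rw [map_mul, map_mul, hs', hs', hs', hζ, H57.tEl_mul, H57.tEl_mul]
        simp only [H57.th_add hF, H57.th_zero, zero_mul, mul_zero, add_zero, zero_add]
        congr 1
        · exact add_comm _ _
        · linear_combination -(H57.th m a' * a) * two) rfl,
      commutatorElement_mul_left_eq_conj_mul (s a' * s a),
      commutatorElement_eq_one_iff_commute.2 (hZc b 0 _ (hs' b) (hζ _)).symm, mul_one,
      mul_inv_cancel, one_mul, comm_mul_left (hsA a' (c a b))]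
  have cr : ∀ a b b', c a (b + b') = c a b * c a b' := by
    intro a b b'
    apply Subtype.ext
    show ⁅s a, s (b + b')⁆ = ⁅s a, s b⁆ * ⁅s a, s b'⁆
    rw [comm_congr π hc (x := s a) (x' := s a) (y := s (b + b'))
      (y' := s b * s b' * ζ (H57.th m b * b')) rfl (by
        rw [map_mul, map_mul, hs', hs', hs', hζ, H57.tEl_mul, H57.tEl_mul]
        simp only [H57.th_add hF, H57.th_zero, zero_mul, mul_zero, add_zero, zero_add]
        congr 1
        linear_combination -(H57.th m b * b') * two),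
      comm_mul_right (y := s b * s b') (y' := ζ _) (by
        rw [commutatorElement_eq_one_iff_commute.2 (hZc a 0 _ (hs' a) (hζ _))]
        exact Commute.one_right _),
      commutatorElement_eq_one_iff_commute.2 (hZc a 0 _ (hs' a) (hζ _)), mul_one,
      comm_mul_right (hsA b (c a b'))]
  have hφc : ∀ (k : Fˣ) a b, φ k (c a b) = c (k * a) (k * b) := by
    intro k a b
    apply Subtype.ext
    show d k * ⁅s a, s b⁆ * (d k)⁻¹ = ⁅s (k * a), s (k * b)⁆
    rw [conjugate_commutatorElement]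
    exact comm_congr π hc (by rw [hconjt k a 0 _ (hs' a), hs', mul_zero])
      (by rw [hconjt k b 0 _ (hs' b), hs', mul_zero])
  have hNc : ∀ a b, Nf (c a b) = 1 := by
    obtain ⟨x, hx0, hx1, hx⟩ := exists_not_additive_id hm hF
    refine vanish (fun a b => Nf (c a b)) id (fun k h => h) rfl ?_ ?_ two ?_ x hx0 hx1 hx
    · intro a a' b; simp only [cl, map_mul]
    · intro a b b'; simp only [cr, map_mul]
    · intro k hk a b
      simp only [hNf, hφc, id]
      refine Fintype.prod_equiv (Equiv.mulRight (Units.mk0 k hk)) _ _ fun l => ?_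
      simp [mul_assoc]
  have hc2 : ∀ a b, c a b * c a b = 1 := by
    intro a b
    rw [← cl, show a + a = 0 by linear_combination a * two]
    have := cl 0 0 b
    rw [add_zero] at this
    exact left_eq_mul.1 this
  let E : Subgroup Γ := ((Nf.ker) ⊓ (powMonoidHom 2 : A →* A).ker).map A.subtype
  have hE : ⁅(H57.tSub hF).comap π, (H57.tSub hF).comap π⁆ ≤ E := by
    refine Subgroup.commutator_le.2 ?_
    rintro g ⟨a, b, hg⟩ g' ⟨a', b', hg'⟩
    refine ⟨c a a', ⟨hNc a a', ?_⟩, ?_⟩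
    · show (c a a') ^ 2 = 1
      rw [sq, hc2]
    · show ⁅s a, s a'⁆ = ⁅g, g'⁆
      rw [comm_congr π hc (hdec a b hg) (hdec a' b' hg'), commutatorElement_mul_left_eq_conj_mul,
        commutatorElement_eq_one_iff_commute.2
          (hZc (g := s a' * ζ b') a' b' b (by rw [map_mul, hs', hζ, ts]) (hζ b)).symm,
        mul_one, mul_inv_cancel, one_mul, commutatorElement_mul_right_eq_mul_conj,
        commutatorElement_eq_one_iff_commute.2 (hZc a 0 b' (hs' a) (hζ b')), mul_one,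
        mul_inv_cancel_right]
  obtain ⟨⟨z', hz'A⟩, ⟨hN, h2'⟩, rfl⟩ := hE hz
  replace hN : Nf ⟨z', hz'A⟩ = 1 := hN
  replace h2' : (⟨z', hz'A⟩ : A) ^ 2 = 1 := h2'
  have hfix : ∀ k : Fˣ, φ k ⟨z', hz'A⟩ = ⟨z', hz'A⟩ := fun k => Subtype.ext (by
    show d k * z' * (d k)⁻¹ = z'
    rw [show d k * z' = z' * d k from mem_center_iff.1 (hc hzK) (d k), mul_inv_cancel_right])
  rw [hNf] at hN
  simp only [hfix, Finset.prod_const, Finset.card_univ] at hN
  have hodd : (Fintype.card Fˣ).Coprime 2 := by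
    rw [Fintype.card_units, hF, Nat.coprime_two_right, Nat.odd_iff]
    have : 2 ∣ 2 ^ (2 * m + 1) := H57.q_even m
    have : 0 < 2 ^ (2 * m + 1) := Nat.two_pow_pos _
    omega
  have h1 : (⟨z', hz'A⟩ : A) = 1 := by
    rw [← orderOf_eq_one_iff]
    exact Nat.eq_one_of_dvd_coprimes hodd (orderOf_dvd_of_pow_eq_one hN)
      (orderOf_dvd_of_pow_eq_one h2')
  exact congrArg Subtype.val h1

/-- Stem extensions without mixed commutators are trivial. -/
theorem ker_eq_bot_of (hm : 1 ≤ m) (hF : Fintype.card F = 2 ^ (2 * m + 1)) [Finite Γ]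
    (σ : Γ →* Cfsg.Sz F m) (hσ : Cfsg.IsStemExtension σ)
    (hγ0 : ∀ (x y : Γ) (a b : F), σ x = H57.tEl hF a 0 → σ y = H57.tEl hF 0 b → ⁅x, y⁆ = 1) :
    σ.ker = ⊥ := by
  refine H97.ker_eq_bot_of_sylow hσ ?_
  intro p hp P z hzP hzK hzd
  by_cases hp2 : p = 2
  · subst hp2
    haveI : Fact (Nat.Prime 2) := hp
    obtain ⟨Q, hQ⟩ := (P.isPGroup'.map σ).exists_le_sylow
    obtain ⟨g, hg⟩ := MulAction.exists_smul_eq (Cfsg.Sz F m) Q (H57.tSylow hm hF)
    obtain ⟨g, rfl⟩ := hσ.1 g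
    have hmap : (P : Subgroup Γ).map (MulAut.conj g).toMonoidHom ≤ (H57.tSub hF).comap σ := by
      rintro _ ⟨x, hx, rfl⟩
      rw [Subgroup.mem_comap, ← H57.coe_tSylow hm hF, ← hg, Sylow.coe_subgroup_smul]
      exact Subgroup.mem_pointwise_smul_iff_inv_smul_mem.2 (by
        simpa [MulAut.smul_def, MulAut.conj_apply, mul_assoc] using hQ ⟨x, hx, rfl⟩)
    have hzc : z ∈ ⁅(P : Subgroup Γ), (P : Subgroup Γ)⁆ := by
      rw [← Subgroup.map_subtype_commutator]
      exact ⟨_, hzd, rfl⟩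
    refine eq_one_of_mem_of hm hF σ hσ.1 hσ.2.1 hγ0 hzK
      (Subgroup.commutator_mono hmap hmap ?_)
    rw [← Subgroup.map_commutator]
    refine ⟨z, hzc, ?_⟩
    show g * z * g⁻¹ = z
    rw [mem_center_iff.1 (hσ.2.1 hzK) g, mul_inv_cancel_right]
  · haveI := H57.odd_pgroup_cyclic hm hF hp2 ((P : Subgroup Γ).map σ)
      (P.isPGroup'.map σ)
    obtain ⟨⟨c, hc⟩, hgen⟩ := IsCyclic.exists_generator (α := ((P : Subgroup Γ).map σ))
    obtain ⟨c', rfl⟩ := hσ.1 c
    have mem : ∀ x : P, σ x ∈ zpowers (σ c') := fun x => by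
      obtain ⟨k, hk⟩ := mem_zpowers_iff.1 (hgen ⟨σ x, mem_map_of_mem σ x.2⟩)
      exact mem_zpowers_iff.2 ⟨k, congrArg Subtype.val hk⟩
    exact congrArg Subtype.val (H97.commutator_trivial_of_comm
      (fun a b : P => Subtype.ext (H97.commute_of_map_cyclic hσ.2.1 c' (mem a) (mem b))) hzd)

/-- The kernel of a stem extension is an image of the four-group. -/
theorem exists_surjection [Finite Γ] (hF : Fintype.card F = 2 ^ (2 * 1 + 1))
    (π : Γ →* Cfsg.Sz F 1) (hπ : Cfsg.IsStemExtension π) :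
    ∃ f : Multiplicative (ZMod 2 × ZMod 2) →* π.ker, Function.Surjective f := by
  classical
  obtain ⟨hs, hc, -⟩ := id hπ
  have two := H57.two_eq_zero hF
  haveI : CharP F 2 := H57.charTwo hF
  obtain ⟨a, ha⟩ := exists_root (F := F) hF
  choose s hs' using fun a : F => hs (H57.tEl hF a 0)
  choose ζ hζ using fun b : F => hs (H57.tEl hF 0 b)
  choose d hd using fun k : Fˣ => hs (H57.dEl hF k)
  let w : F → F := fun k => H57.th 1 k * k
  have hcen : ∀ {x y : Γ} (a b c : F), π x = H57.tEl hF a b → π y = H57.tEl hF 0 c →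
      ⁅x, y⁆ ∈ π.ker := fun a b c hx hy => by
    rw [MonoidHom.mem_ker, map_commutatorElement, hx, hy, commutatorElement_eq_one_iff_mul_comm]
    simp [H57.tEl_mul, add_comm]
  have radd : ∀ c b b', ⁅s c, ζ (b + b')⁆ = ⁅s c, ζ b⁆ * ⁅s c, ζ b'⁆ := by
    intro c b b'
    rw [comm_congr π hc (x := s c) (x' := s c) (y := ζ (b + b')) (y' := ζ b * ζ b') rfl
        (by rw [map_mul, hζ, hζ, hζ]; simp [H57.tEl_mul]),
      comm_mul_right (mem_center_iff.1 (hc (hcen _ _ _ (hs' c) (hζ b'))) (ζ b))]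
  let L : Multiplicative F →* π.ker :=
    MonoidHom.mk' (fun b => ⟨⁅s 1, ζ (Multiplicative.toAdd b)⁆, hcen _ _ _ (hs' 1) (hζ _)⟩)
      (fun b b' => Subtype.ext (radd 1 _ _))
  have hL1 : L (Multiplicative.ofAdd (1 : F)) = 1 := by
    apply Subtype.ext
    show ⁅s 1, ζ 1⁆ = 1
    rw [comm_congr π hc (x := s 1) (x' := s 1) (y := ζ 1) (y' := s 1 * s 1) rfl
        (by rw [map_mul, hs', hζ, H57.tEl_mul, H57.th_one, one_mul, add_zero, zero_add,
              show (1 : F) + 1 = 0 by linear_combination two]),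
      commutatorElement_eq_one_iff_mul_comm, mul_assoc]
  let N : Subgroup Γ := L.range.map π.ker.subtype
  have hNk : N ≤ π.ker := Subgroup.map_subtype_le _
  haveI hNn : N.Normal := ⟨fun x hx g => by
    rw [mem_center_iff.1 (hc (hNk hx)) g, mul_inv_cancel_right]; exact hx⟩
  have hin : ∀ (x y : Γ) (c b : F), π x = H57.tEl hF c 0 → π y = H57.tEl hF 0 b → ⁅x, y⁆ ∈ N := by
    intro x y c b hx hy
    rw [comm_congr π hc (hx.trans (hs' c).symm) (hy.trans (hζ b).symm)]
    by_cases hc0 : c = 0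
    · rw [hc0, comm_congr π hc (x := s 0) (x' := 1) (y := ζ b) (y' := ζ b)
        (by rw [hs', map_one, H57.tEl_zero]) rfl, commutatorElement_one_left]
      exact one_mem _
    have hw : w c ≠ 0 := mul_ne_zero (fun h => hc0 (H57.th_eq_zero.1 h)) hc0
    refine ⟨L (Multiplicative.ofAdd (b * (w c)⁻¹)), ⟨_, rfl⟩, ?_⟩
    show ⁅s 1, ζ (b * (w c)⁻¹)⁆ = ⁅s c, ζ b⁆
    rw [comm_congr π hc (x := s c) (x' := d (Units.mk0 c hc0) * s 1 * (d (Units.mk0 c hc0))⁻¹)
      (y := ζ b) (y' := d (Units.mk0 c hc0) * ζ (b * (w c)⁻¹) * (d (Units.mk0 c hc0))⁻¹)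
      (by rw [map_mul, map_mul, map_inv, hd, hs', hs', H57.dEl_tEl, mul_inv_cancel_right,
            Units.val_mk0, mul_one, mul_zero])
      (by rw [map_mul, map_mul, map_inv, hd, hζ, hζ, H57.dEl_tEl, mul_inv_cancel_right,
            Units.val_mk0, mul_zero, mul_left_comm, show H57.th 1 c * c = w c from rfl,
            mul_inv_cancel₀ hw, mul_one]),
      ← conjugate_commutatorElement, mem_center_iff.1 (hc (hcen _ _ _ (hs' 1) (hζ _))) _,
      mul_inv_cancel_right]
  let π' : Γ ⧸ N →* Cfsg.Sz F 1 := QuotientGroup.lift N π hNk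
  have hker : π'.ker = π.ker.map (QuotientGroup.mk' N) := QuotientGroup.ker_lift _ _ hNk
  have hπ' : Cfsg.IsStemExtension π' := by
    refine ⟨QuotientGroup.lift_surjective_of_surjective N π hs hNk, ?_, ?_⟩
    · rw [hker]
      rintro _ ⟨z, hz, rfl⟩
      refine mem_center_iff.2 fun g => ?_
      obtain ⟨g, rfl⟩ := QuotientGroup.mk'_surjective N g
      rw [← map_mul, ← map_mul, mem_center_iff.1 (hc hz) g]
    · rw [hker, commutator_def, ← Subgroup.map_top_of_surjective _ (QuotientGroup.mk'_surjective N),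
        ← Subgroup.map_commutator, ← commutator_def]
      exact Subgroup.map_mono hπ.2.2
  have hbot := ker_eq_bot_of le_rfl hF π' hπ' (fun x y c b hx hy => by
    obtain ⟨x, rfl⟩ := QuotientGroup.mk'_surjective N x
    obtain ⟨y, rfl⟩ := QuotientGroup.mk'_surjective N y
    rw [← map_commutatorElement]
    exact (QuotientGroup.eq_one_iff _).2 (hin x y c b hx hy))
  have hsur : ∀ z : π.ker, ∃ b, L b = z := by
    rintro ⟨z, hz⟩
    have h1 : QuotientGroup.mk' N z ∈ π'.ker := hker ▸ ⟨z, hz, rfl⟩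
    rw [hbot, Subgroup.mem_bot] at h1
    obtain ⟨z', ⟨b, hb⟩, hz'⟩ := (QuotientGroup.eq_one_iff z).1 h1
    exact ⟨b, hb.trans (Subtype.ext hz')⟩
  let c2 : ZMod 2 →+ F := (ZMod.castHom (dvd_refl 2) F).toAddMonoidHom
  let ι : ZMod 2 × ZMod 2 →+ F :=
    AddMonoidHom.coprod ((AddMonoidHom.mulRight a).comp c2) ((AddMonoidHom.mulRight (a ^ 2)).comp c2)
  refine ⟨L.comp (AddMonoidHom.toMultiplicative ι), fun z => ?_⟩
  obtain ⟨b, rfl⟩ := hsur z
  obtain ⟨i, hi⟩ := (el_bijective two ha hF).2 (Multiplicative.toAdd b)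
  refine ⟨Multiplicative.ofAdd ((bit i 1 : ZMod 2), (bit i 2 : ZMod 2)), ?_⟩
  show L (Multiplicative.ofAdd (ι ((bit i 1 : ZMod 2), (bit i 2 : ZMod 2)))) = L b
  have hι : ι ((bit i 1 : ZMod 2), (bit i 2 : ZMod 2)) = (bit i 1 : F) * a + (bit i 2 : F) * a ^ 2 := by
    simp [ι, c2]
  rw [hι, show b = Multiplicative.ofAdd (el a i) by rw [hi]; rfl, el, add_assoc, ofAdd_add (bit i 0 : F), map_mul]
  rcases (show bit i 0 = 0 ∨ bit i 0 = 1 from Nat.mod_two_eq_zero_or_one _) with h | h <;>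
    simp [h, hL1]

end H57.SzEight
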