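import Mathlib
import Cfsg.Prelude.Def_KGroupFacts
import Cfsg.Agent.H57.SzAut
import Cfsg.Agent.H76.CoverLift
import Cfsg.Agent.H57.SzEight.Cover
import Cfsg.Agent.H57.SzEight.Upper

/-!
The fibre product of two Galois-twisted double covers: a stem cover with kernel the four-group.
-/

set_option autoImplicit false
set_option maxRecDepth 100000
set_option linter.style.haveILetI false
set_option linter.unusedSectionVars false

namespace H57.SzEight

open Subgroup
open scoped commutatorElement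

/-- The conjugates of the square of the first generator by powers of the second. -/
def lX : ℕ → List (List ℕ)
  | 0 => mulL lS lS
  | j + 1 => mulL (mulL lD (lX j)) (trL lD)

/-- The same in `GL₈`. -/
def gX : ℕ → GL (Fin 8) (ZMod 5)
  | 0 => gS * gS
  | j + 1 => gD * gX j * gD⁻¹

theorem gX_val : ∀ j, (gX j : Matrix (Fin 8) (Fin 8) (ZMod 5)) = toM (lX j)
  | 0 => (toM_mul lS lS).symm
  | j + 1 => by
    rw [lX, toM_mul, toM_mul, ← gX_val j]
    rfl

theorem sign_five : mulL lS (lX 5) = mulL (scL 4) (mulL (lX 5) lS) := by decide +kernel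
theorem sign_three : mulL lS (lX 3) = mulL (scL 1) (mulL (lX 3) lS) := by decide +kernel
theorem sign_six : mulL lS (lX 6) = mulL (scL 4) (mulL (lX 6) lS) := by decide +kernel

theorem comm_neg {j : ℕ} (h : mulL lS (lX j) = mulL (scL 4) (mulL (lX j) lS)) :
    ⁅gS, gX j⁆ = -1 := by
  rw [commutatorElement_def, mul_inv_eq_iff_eq_mul, mul_inv_eq_iff_eq_mul]
  apply Units.ext
  rw [Units.val_mul, Units.val_mul, Units.val_mul, Units.val_neg, Units.val_one, gX_val]
  show toM lS * toM (lX j) = -1 * toM (lX j) * toM lS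
  rw [← toM_mul, h, toM_mul, toM_mul, toM_sc, mul_assoc, show ((4 : ℕ) : ZMod 5) = -1 by decide,
    neg_one_smul]

theorem comm_one {j : ℕ} (h : mulL lS (lX j) = mulL (scL 1) (mulL (lX j) lS)) :
    ⁅gS, gX j⁆ = 1 := by
  rw [commutatorElement_eq_one_iff_mul_comm]
  apply Units.ext
  rw [Units.val_mul, Units.val_mul, gX_val]
  show toM lS * toM (lX j) = toM (lX j) * toM lS
  rw [← toM_mul, h, toM_mul, toM_mul, toM_sc, Nat.cast_one, one_smul, one_mul]

variable {F : Type*} [Field F] [Fintype F] (hF : Fintype.card F = 8) {a : F} (ha : a ^ 3 = a + 1)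

include hF ha

theorem gX_mem : ∀ j, (gX j, tEl (m := 1) (hF' hF) (0 : F) (a ^ (5 * j))) ∈ R hF ha
  | 0 => by
    have h := (R hF ha).mul_mem (gen_mem hF ha).1 (gen_mem hF ha).1
    convert h using 1
    refine Prod.ext rfl ?_
    show tEl (m := 1) (hF' hF) (0 : F) (a ^ (5 * 0)) =
      tEl (m := 1) (hF' hF) (1 : F) 0 * tEl (m := 1) (hF' hF) (1 : F) 0
    rw [tEl_mul, th_one, one_mul, add_zero, zero_add, mul_zero, pow_zero,
      show (1 : F) + 1 = 0 by linear_combination two' hF]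
  | j + 1 => by
    have h := (R hF ha).mul_mem ((R hF ha).mul_mem (gen_mem hF ha).2.1 (gX_mem j))
      ((R hF ha).inv_mem (gen_mem hF ha).2.1)
    convert h using 1
    refine Prod.ext rfl ?_
    show tEl (m := 1) (hF' hF) (0 : F) (a ^ (5 * (j + 1))) =
      dEl (m := 1) (hF' hF) (kA ha) * tEl (m := 1) (hF' hF) (0 : F) (a ^ (5 * j)) *
        (dEl (m := 1) (hF' hF) (kA ha))⁻¹
    rw [dEl_tEl, mul_inv_cancel_right]
    show _ = tEl (m := 1) (hF' hF) (a * 0) (th 1 a * a * a ^ (5 * j))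
    rw [mul_zero, th_def, mul_add, pow_add]
    congr 1
    norm_num
    ring

/-- The squaring automorphism. -/
noncomputable def frob : F ≃+* F :=
  haveI : CharP F 2 := H57.charTwo (hF' hF)
  RingEquiv.ofBijective (frobenius F 2) (Finite.injective_iff_bijective.1 (frobenius F 2).injective)

omit ha in
theorem frob_apply (x : F) : frob hF x = x ^ 2 := by
  haveI : CharP F 2 := H57.charTwo (hF' hF)
  simp [frob, frobenius_def]

/-- The fibre product. -/
noncomputable def P : Subgroup (↥(R hF ha) × ↥(R hF ha)) :=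
  (((fieldAut le_rfl (hF' hF) (frob hF)).toMonoidHom.comp (prj hF ha)).comp
      (MonoidHom.fst ↥(R hF ha) ↥(R hF ha))).eqLocus
    ((prj hF ha).comp (MonoidHom.snd ↥(R hF ha) ↥(R hF ha)))

/-- The map from the fibre product. -/
noncomputable def tau : P hF ha →* Cfsg.Sz F 1 :=
  ((prj hF ha).comp (MonoidHom.fst _ _)).comp (P hF ha).subtype

theorem tau_surjective : Function.Surjective (tau hF ha) := by
  intro g
  obtain ⟨u, hu⟩ := prj_surjective hF ha g
  obtain ⟨v, hv⟩ := prj_surjective hF ha (fieldAut le_rfl (hF' hF) (frob hF) g)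
  refine ⟨⟨(u, v), ?_⟩, hu⟩
  show fieldAut le_rfl (hF' hF) (frob hF) (prj hF ha u) = prj hF ha v
  rw [hu, hv]

theorem tau_ker {x : P hF ha} (hx : tau hF ha x = 1) :
    ((x : ↥(R hF ha) × ↥(R hF ha)).1.1.1 = 1 ∨ (x : ↥(R hF ha) × ↥(R hF ha)).1.1.1 = -1) ∧
      ((x : ↥(R hF ha) × ↥(R hF ha)).2.1.1 = 1 ∨ (x : ↥(R hF ha) × ↥(R hF ha)).2.1.1 = -1) ∧
        (x : ↥(R hF ha) × ↥(R hF ha)).1.1.2 = 1 ∧ (x : ↥(R hF ha) × ↥(R hF ha)).2.1.2 = 1 := by
  obtain ⟨⟨⟨⟨u1, u2⟩, hu⟩, ⟨⟨v1, v2⟩, hv⟩⟩, hP⟩ := x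
  have hu2 : u2 = 1 := hx
  subst hu2
  have hv2 : fieldAut le_rfl (hF' hF) (frob hF) 1 = v2 := hP
  rw [map_one] at hv2
  subst hv2
  exact ⟨eq_sign hF ha hu, eq_sign hF ha hv, rfl, rfl⟩

theorem tau_central : (tau hF ha).ker ≤ center (P hF ha) := by
  intro x hx
  obtain ⟨h1, h2, h3, h4⟩ := tau_ker hF ha hx
  refine mem_center_iff.2 fun g => ?_
  apply Subtype.ext
  refine Prod.ext ?_ ?_
  · apply Subtype.ext
    refine Prod.ext ?_ ?_
    · show g.1.1.1.1 * x.1.1.1.1 = x.1.1.1.1 * g.1.1.1.1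
      rcases h1 with h | h <;> simp [h]
    · show g.1.1.1.2 * x.1.1.1.2 = x.1.1.1.2 * g.1.1.1.2
      rw [h3, mul_one, one_mul]
  · apply Subtype.ext
    refine Prod.ext ?_ ?_
    · show g.1.2.1.1 * x.1.2.1.1 = x.1.2.1.1 * g.1.2.1.1
      rcases h2 with h | h <;> simp [h]
    · show g.1.2.1.2 * x.1.2.1.2 = x.1.2.1.2 * g.1.2.1.2
      rw [h4, mul_one, one_mul]

/-- The cover. -/
noncomputable def sigma : ↥(commutator (P hF ha)) →* Cfsg.Sz F 1 :=
  (tau hF ha).comp (commutator (P hF ha)).subtype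

theorem isStem : Cfsg.IsStemExtension (sigma hF ha) := by
  have hS : commutator (Cfsg.Sz F 1) = ⊤ := sz_perfect le_rfl (hF' hF)
  have hc := tau_central hF ha
  have hD : (commutator (P hF ha)).map (tau hF ha) = ⊤ := by
    rw [map_commutator_eq, MonoidHom.range_eq_top.2 (tau_surjective hF ha), ← commutator_def, hS]
  have hτs : Function.Surjective (sigma hF ha) := by
    intro x
    obtain ⟨y, hy, rfl⟩ := hD.ge (mem_top x)
    exact ⟨⟨y, hy⟩, rfl⟩
  have hperf : commutator ↥(commutator (P hF ha)) = ⊤ := by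
    apply Subgroup.map_injective (commutator (P hF ha)).subtype_injective
    rw [Subgroup.map_subtype_commutator, ← MonoidHom.range_eq_map, Subgroup.range_subtype]
    apply le_antisymm (commutator (P hF ha)).commutator_le_self
    refine Subgroup.commutator_le.2 fun x _ y _ => ?_
    obtain ⟨x', hx'⟩ := hτs (tau hF ha x)
    obtain ⟨y', hy'⟩ := hτs (tau hF ha y)
    rw [H76.Cover.comm_congr (tau hF ha) hc (x' := (x' : P hF ha)) (y' := (y' : P hF ha)) hx'.symm hy'.symm]
    exact commutator_mem_commutator x'.2 y'.2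
  refine ⟨hτs, fun z hz => mem_center_iff.2 fun g => ?_, hperf ▸ le_top⟩
  exact Subtype.ext (mem_center_iff.1 (hc hz) g)

/-- Commutators of lifts give the two signs. -/
theorem exists_signs (j k : ℕ) (hjk : (a ^ (5 * j)) ^ 2 = a ^ (5 * k)) :
    ∃ z : (sigma hF ha).ker, (z.1.1.1.1).1.1 = ⁅gS, gX j⁆ ∧ (z.1.1.1.2).1.1 = ⁅gS, gX k⁆ := by
  let x : ↥(R hF ha) := ⟨_, (gen_mem hF ha).1⟩
  let y : ↥(R hF ha) := ⟨_, gX_mem hF ha j⟩
  let y' : ↥(R hF ha) := ⟨_, gX_mem hF ha k⟩
  have hxx : (x, x) ∈ P hF ha := by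
    show fieldAut le_rfl (hF' hF) (frob hF) (tEl (m := 1) (hF' hF) (1 : F) 0) = tEl (m := 1) (hF' hF) (1 : F) 0
    rw [fieldAut_tEl, map_one, map_zero]
  have hyy : (y, y') ∈ P hF ha := by
    show fieldAut le_rfl (hF' hF) (frob hF) (tEl (m := 1) (hF' hF) (0 : F) (a ^ (5 * j))) =
      tEl (m := 1) (hF' hF) (0 : F) (a ^ (5 * k))
    rw [fieldAut_tEl, map_zero, frob_apply, hjk]
  refine ⟨⟨⟨⁅(⟨_, hxx⟩ : P hF ha), ⟨_, hyy⟩⁆, commutator_mem_commutator (mem_top _) (mem_top _)⟩, ?_⟩, ?_⟩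
  · show tau hF ha ⁅(⟨_, hxx⟩ : P hF ha), (⟨_, hyy⟩ : P hF ha)⁆ = 1
    rw [map_commutatorElement, commutatorElement_eq_one_iff_mul_comm]
    show tEl (m := 1) (hF' hF) (1 : F) 0 * tEl (m := 1) (hF' hF) (0 : F) (a ^ (5 * j)) =
      tEl (m := 1) (hF' hF) (0 : F) (a ^ (5 * j)) * tEl (m := 1) (hF' hF) (1 : F) 0
    rw [tEl_mul, tEl_mul]
    simp [add_comm]
  · constructor <;> simp [x, y, y', commutatorElement_def]

theorem pow_seven : a ^ 7 = 1 := by
  have h0 : a ≠ 0 := fun h => by subst h; simp at ha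
  have := FiniteField.pow_card_sub_one_eq_one a h0
  rwa [hF] at this

set_option maxHeartbeats 4000000 in
/-- The multiplier. -/
theorem hasSchurMultiplier :
    Cfsg.HasSchurMultiplier ↥(Cfsg.Sz F 1) (Multiplicative (ZMod 2 × ZMod 2)) := by
  refine ⟨⟨↥(commutator (P hF ha)), inferInstance, inferInstance, sigma hF ha, isStem hF ha, ?_⟩,
    fun Γ _ _ π hπ => exists_surjection (hF' hF) π hπ⟩
  obtain ⟨f, hf⟩ := exists_surjection (hF' hF) (sigma hF ha) (isStem hF ha)
  refine ⟨(MulEquiv.ofBijective f ⟨?_, hf⟩).symm⟩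
  obtain ⟨z₁, h11, h12⟩ := exists_signs hF ha 5 3 (by
    calc (a ^ (5 * 5)) ^ 2 = (a ^ 7) ^ 7 * a := by ring
      _ = (a ^ 7) ^ 2 * a := by rw [pow_seven hF ha]; ring
      _ = a ^ (5 * 3) := by ring)
  obtain ⟨z₂, h21, h22⟩ := exists_signs hF ha 3 6 (by ring)
  rw [comm_neg sign_five] at h11
  rw [comm_one sign_three] at h12 h21
  rw [comm_neg sign_six] at h22
  let v : (sigma hF ha).ker → GL (Fin 8) (ZMod 5) × GL (Fin 8) (ZMod 5) :=
    fun z => ((z.1.1.1.1).1.1, (z.1.1.1.2).1.1)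
  have hmul : ∀ z z', v (z * z') = v z * v z' := fun z z' => rfl
  have hne : (-1 : GL (Fin 8) (ZMod 5)) ≠ 1 := by
    intro h
    have := congrArg (fun g : GL (Fin 8) (ZMod 5) => (g : Matrix (Fin 8) (Fin 8) (ZMod 5)) 0 0) h
    simp at this
    revert this
    decide
  have h4 : 4 ≤ Nat.card (sigma hF ha).ker := by
    have hv : Function.Injective ![(1 : (sigma hF ha).ker), z₁, z₂, z₁ * z₂] := by
      intro i j hij
      have h := congrArg v hij
      have e0 : v 1 = (1, 1) := rfl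
      have e1 : v z₁ = (-1, 1) := Prod.ext h11 h12
      have e2 : v z₂ = (1, -1) := Prod.ext h21 h22
      fin_cases i <;> fin_cases j <;>
        first
          | rfl
          | (exfalso; revert h; simp [hmul, e0, e1, e2, hne, hne.symm])
    simpa using Nat.card_le_card_of_injective _ hv
  have hc : Nat.card (Multiplicative (ZMod 2 × ZMod 2)) = 4 := by
    show Nat.card (ZMod 2 × ZMod 2) = 4
    simp
  have := Nat.card_le_card_of_surjective f hf
  exact ((Function.Surjective.bijective_of_nat_card_le hf (by omega))).1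

end H57.SzEight
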